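import Cfsg.Agent.Lib.Spor.HeldFusion.Checks
import Mathlib.GroupTheory.Sylow
import Mathlib.GroupTheory.OrderOfElement

/-!
# Held type groups: classes and subgroups inside `Cen splitTab`
-/

set_option autoImplicit false
set_option linter.unusedSectionVars false
set_option linter.style.haveILetI false

namespace CfsgLib.Spor.HeldFusion

open CfsgLib.Spor.HeldRecog Subgroup

theorem getD_get (l : List ℕ) (d : ℕ) {i : ℕ} (h : i < l.length) : l.getD i d = l[i] := by
  rw [List.getD_eq_getElem?_getD, List.getElem?_eq_getElem h]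
  rfl

/-- the element with a given code, the identity if out of range -/
noncomputable def el (n : ℕ) : Cen splitTab := if h : n < 21504 then ⟨n, h⟩ else 1

theorem el_val {n : ℕ} (h : n < 21504) : (el n).val = n := by rw [el, dif_pos h]

theorem el_of_val (x : Cen splitTab) : el x.val = x := Cen.ext (el_val x.lt)

theorem el_zero : el 0 = 1 := Cen.ext (el_val (by norm_num))

theorem mulC_lt {a b : ℕ} (ha : a < 21504) (hb : b < 21504) : mulC a b < 21504 :=
  (splitTab_valid.mul_facts ha hb).1

theorem el_mul {a b : ℕ} (ha : a < 21504) (hb : b < 21504) : el (mulC a b) = el a * el b :=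
  Cen.ext (by rw [el_val (mulC_lt ha hb), split_mul_val, el_val ha, el_val hb]; rfl)

theorem el_inj {a b : ℕ} (ha : a < 21504) (hb : b < 21504) (h : el a = el b) : a = b := by
  rw [← el_val ha, h, el_val hb]

theorem el_foldl : ∀ (l : List ℕ) {a : ℕ}, a < 21504 → (∀ g ∈ l, g < 21504) →
    el (l.foldl mulC a) = el a * (l.map el).prod ∧ l.foldl mulC a < 21504
  | [], a, ha, _ => ⟨by simp, ha⟩
  | g :: l, a, ha, hl => by
    have hg := hl g (List.mem_cons_self)
    obtain ⟨h1, h2⟩ := el_foldl l (mulC_lt ha hg) fun x hx => hl x (List.mem_cons_of_mem _ hx)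
    exact ⟨by rw [List.foldl_cons, h1, el_mul ha hg, List.map_cons, List.prod_cons, mul_assoc], h2⟩

/-- a subgroup given by a list of codes closed under products -/
noncomputable def listSub (L : ℕ → Bool) (h0 : L 0 = true) (hlt : ∀ n, L n = true → n < 21504)
    (hmul : ∀ a b, L a = true → L b = true → L (mulC a b) = true) : Subgroup (Cen splitTab) where
  carrier := {x | L x.val = true}
  mul_mem' {x y} hx hy := by
    show L (x * y).val = true
    rw [split_mul_val]
    exact hmul _ _ hx hy
  one_mem' := by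
    show L (1 : Cen splitTab).val = true
    rw [split_one_val]; exact h0
  inv_mem' {x} hx := by
    have hpow : ∀ n : ℕ, L (x ^ n).val = true := by
      intro n
      induction n with
      | zero => rw [pow_zero, split_one_val]; exact h0
      | succ n ih => rw [pow_succ, split_mul_val]; exact hmul _ _ ih hx
    show L x⁻¹.val = true
    rw [show x⁻¹ = x ^ (orderOf x - 1) from inv_eq_of_mul_eq_one_right (by
      rw [← pow_succ', Nat.sub_add_cancel (orderOf_pos x), pow_orderOf_eq_one])]
    exact hpow _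

theorem inS_mul {a b : ℕ} (ha : inS a = true) (hb : inS b = true) : inS (mulC a b) = true := by
  simp only [inS, Bool.and_eq_true, decide_eq_true_eq, List.contains_iff_mem] at *
  obtain ⟨h1, -, -, -, -⟩ := res_closed
  simp only [List.all_eq_true, List.contains_iff_mem] at h1
  obtain ⟨hlt, hdiv, -⟩ := splitTab_valid.mul_facts ha.1 hb.1
  refine ⟨hlt, ?_⟩
  show splitTab.mul a b / 128 ∈ sRes
  rw [hdiv]
  exact h1 _ ha.2 _ hb.2

theorem inS_lt {n : ℕ} (h : inS n = true) : n < 21504 := by
  simp only [inS, Bool.and_eq_true, decide_eq_true_eq] at h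
  exact h.1

/-- the Sylow 2-subgroup -/
noncomputable def sylC : Subgroup (Cen splitTab) :=
  listSub inS (by
    simp only [inS, Bool.and_eq_true, decide_eq_true_eq]
    exact ⟨by norm_num, res_closed.2.1⟩) (fun _ h => inS_lt h) fun _ _ => inS_mul

theorem mem_sylC {x : Cen splitTab} : x ∈ sylC ↔ inS x.val = true := Iff.rfl

theorem inS_mem_sList {n : ℕ} (h : inS n = true) : n ∈ sList := by
  simp only [inS, Bool.and_eq_true, decide_eq_true_eq, List.contains_iff_mem] at h
  simp only [sList, List.mem_flatMap, List.mem_map, List.mem_range]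
  exact ⟨n / 128, h.2, n % 128, Nat.mod_lt _ (by norm_num), Nat.div_add_mod n 128⟩

theorem sList_inS {n : ℕ} (h : n ∈ sList) : inS n = true := by
  simp only [sList, List.mem_flatMap, List.mem_map, List.mem_range] at h
  obtain ⟨a, ha, q, hq, rfl⟩ := h
  obtain ⟨-, -, -, -, h5⟩ := res_closed
  simp only [List.all_eq_true, decide_eq_true_eq] at h5
  simp only [inS, Bool.and_eq_true, decide_eq_true_eq, List.contains_iff_mem]
  have := h5 a ha
  refine ⟨by omega, ?_⟩
  rwa [show (128 * a + q) / 128 = a by omega]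

theorem card_sylC : Nat.card sylC = 1024 := by
  classical
  obtain ⟨-, -, hnd, hlen, -⟩ := res_closed
  have hlt : ∀ x : {n : ℕ // n ∈ sList}, x.1 < 21504 := fun x => inS_lt (sList_inS x.2)
  let φ : {n : ℕ // n ∈ sList} → sylC := fun x => ⟨el x.1, by
    rw [mem_sylC, el_val (hlt x)]; exact sList_inS x.2⟩
  have hφ : Function.Bijective φ := by
    refine ⟨fun x y e => Subtype.ext (el_inj (hlt x) (hlt y) (congrArg Subtype.val e)), fun x => ?_⟩
    exact ⟨⟨x.1.val, inS_mem_sList x.2⟩, Subtype.ext (el_of_val x.1)⟩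
  have hnd' : sList.Nodup := by
    refine List.nodup_flatMap.2 ⟨fun a _ => List.nodup_range.map fun u v e => ?_, hnd.imp fun {a b} hab => ?_⟩
    · exact Nat.add_left_cancel e
    · intro x hxa hxb
      simp only [List.mem_map, List.mem_range] at hxa hxb
      obtain ⟨p, hp, rfl⟩ := hxa
      obtain ⟨q, hq, e⟩ := hxb
      omega
  rw [← Nat.card_congr (Equiv.ofBijective φ hφ), Nat.card_eq_fintype_card]
  refine (Fintype.card_of_subtype sList.toFinset fun x => List.mem_toFinset).trans ?_
  rw [List.toFinset_card_of_nodup hnd', sList, List.length_flatMap]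
  simp [hlen]

/-- the six generating involutions -/
def genSet : Set (Cen splitTab) := {x | x.val ∈ gensC}

theorem el_gen {g : ℕ} (hg : g ∈ gensC) : g < 21504 ∧ el g ∈ genSet ∧ el g * el g = 1 ∧
    el g * el zCode = el zCode * el g := by
  obtain ⟨h1, -, -⟩ := gens_ok
  simp only [List.all_eq_true, Bool.and_eq_true, decide_eq_true_eq, beq_iff_eq] at h1
  obtain ⟨hlt, h2, h3⟩ := h1 g hg
  refine ⟨hlt, ?_, ?_, ?_⟩
  · show (el g).val ∈ gensC
    rwa [el_val hlt]
  · rw [← el_mul hlt hlt, h2, el_zero]
  · rw [← el_mul hlt (by norm_num [zCode]), ← el_mul (by norm_num [zCode]) hlt, h3]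

theorem word_mem {w : List ℕ} (hw : ∀ k ∈ w, k < 6) :
    el ((w.map fun k => gensC.getD k 0).foldl mulC 0) ∈ closure genSet := by
  have hg : ∀ g ∈ w.map fun k => gensC.getD k 0, g ∈ gensC := by
    intro g hg
    obtain ⟨k, hk, rfl⟩ := List.mem_map.1 hg
    have h6 : gensC.length = 6 := rfl
    rw [getD_get _ _ (by rw [h6]; exact hw k hk)]
    exact List.getElem_mem _
  rw [(el_foldl _ (by norm_num) fun g h => (el_gen (hg g h)).1).1, el_zero, one_mul]
  refine list_prod_mem fun x hx => ?_
  obtain ⟨g, hg', rfl⟩ := List.mem_map.1 hx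
  exact subset_closure (el_gen (hg g hg')).2.1

theorem target_mem {n : ℕ} (h : n ∈ genTargets) : el n ∈ closure genSet := by
  obtain ⟨h1, h2⟩ := words_ok
  simp only [List.all_eq_true, decide_eq_true_eq] at h2
  rw [← h1] at h
  obtain ⟨w, hw, rfl⟩ := List.mem_map.1 h
  exact word_mem (h2 w hw)

theorem roots_mem_sylC {g : ℕ} (hg : g ∈ rootsC) : g < 21504 ∧ el g ∈ sylC ∧ el g * el g = 1 := by
  obtain ⟨-, h1, -⟩ := gens_ok
  simp only [List.all_eq_true, Bool.and_eq_true, beq_iff_eq] at h1
  obtain ⟨h2, h3⟩ := h1 g hg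
  exact ⟨inS_lt h2, by rw [mem_sylC, el_val (inS_lt h2)]; exact h2, by
    rw [← el_mul (inS_lt h2) (inS_lt h2), h3, el_zero]⟩

/-- the roots generate the Sylow 2-subgroup -/
theorem sylC_le (H : Subgroup (Cen splitTab)) (hH : ∀ g ∈ rootsC, el g ∈ H) : sylC ≤ H := by
  classical
  have hmem : ∀ k : ℕ, el ((((List.range 10).filter fun b => k.testBit b).map fun b =>
      rootsC.getD b 0).foldl mulC 0) ∈ H ⊓ sylC := by
    intro k
    have hr : ∀ g ∈ (((List.range 10).filter fun b => k.testBit b).map fun b => rootsC.getD b 0), g ∈ rootsC := by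
      intro g hg
      obtain ⟨b, hb, rfl⟩ := List.mem_map.1 hg
      have h10 : rootsC.length = 10 := rfl
      rw [getD_get _ _ (by rw [h10]; exact List.mem_range.1 (List.mem_filter.1 hb).1)]
      exact List.getElem_mem _
    rw [(el_foldl _ (by norm_num) fun g h => (roots_mem_sylC (hr g h)).1).1, el_zero, one_mul]
    refine list_prod_mem fun x hx => ?_
    obtain ⟨g, hg, rfl⟩ := List.mem_map.1 hx
    exact ⟨hH g (hr g hg), (roots_mem_sylC (hr g hg)).2.1⟩
  have hcard : 1024 ≤ Nat.card (H ⊓ sylC : Subgroup _) := by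
    calc (1024 : ℕ) = Nat.card (Fin 1024) := (Nat.card_fin 1024).symm
      _ ≤ _ := Nat.card_le_card_of_injective (fun k : Fin 1024 => (⟨_, hmem k⟩ : (H ⊓ sylC : Subgroup _)))
          fun i j hij => Fin.ext (List.inj_on_of_nodup_map roots_generate (List.mem_range.2 i.2)
            (List.mem_range.2 j.2) (el_inj ?_ ?_ (congrArg Subtype.val hij)))
    all_goals
      refine (el_foldl _ (by norm_num) fun g hg => ?_).2
      obtain ⟨b, hb, rfl⟩ := List.mem_map.1 hg
      have h10 : rootsC.length = 10 := rfl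
      refine (roots_mem_sylC ?_).1
      rw [getD_get _ _ (by rw [h10]; exact List.mem_range.1 (List.mem_filter.1 hb).1)]
      exact List.getElem_mem _
  have := Subgroup.eq_of_le_of_card_ge (inf_le_right : H ⊓ sylC ≤ sylC) (by rw [card_sylC]; exact hcard)
  exact this ▸ inf_le_left

theorem orderOf_el {n p : ℕ} (hp : p.Prime) (h1 : el n ^ p = 1) (h2 : el n ≠ 1) : orderOf (el n) = p :=
  haveI := Fact.mk hp
  orderOf_eq_prime h1 h2

theorem el_sevenC : orderOf (el sevenC) = 7 ∧ orderOf (el threeA) = 3 ∧ orderOf (el threeB) = 3 := by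
  obtain ⟨⟨h7, h7'⟩, ⟨ha, ha'⟩, ⟨hb, hb'⟩⟩ := seven_three
  have l7 : sevenC < 21504 := by norm_num [sevenC]
  have la : threeA < 21504 := by norm_num [threeA]
  have lb : threeB < 21504 := by norm_num [threeB]
  have hne : ∀ {n : ℕ}, n < 21504 → n ≠ 0 → el n ≠ 1 := fun hn h e =>
    h (el_inj hn (by norm_num) (e.trans el_zero.symm))
  refine ⟨orderOf_el (show Nat.Prime 7 by decide) ?_ (hne l7 h7'), orderOf_el Nat.prime_three ?_ (hne la ha'),
    orderOf_el Nat.prime_three ?_ (hne lb hb')⟩
  · have h := (el_foldl (List.replicate 7 sevenC) (show 0 < 21504 by norm_num)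
      fun g hg => (List.eq_of_mem_replicate hg).symm ▸ l7).1
    rw [List.map_replicate, List.prod_replicate, el_zero, one_mul] at h
    rw [← h, show (List.replicate 7 sevenC).foldl mulC 0 = 0 from h7, el_zero]
  · rw [pow_three, ← mul_assoc, ← el_mul la la, ← el_mul (mulC_lt la la) la, ha, el_zero]
  · rw [pow_three, ← mul_assoc, ← el_mul lb lb, ← el_mul (mulC_lt lb lb) lb, hb, el_zero]

/-- the six involutions generate -/
theorem gen_top : closure genSet = ⊤ := by
  refine Subgroup.eq_top_of_card_eq _ ?_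
  have hS : sylC ≤ closure genSet := sylC_le _ fun g hg =>
    target_mem (by simp [genTargets, hg])
  have h1 : 1024 ∣ Nat.card (closure genSet) := card_sylC ▸ Subgroup.card_dvd_of_le hS
  have h7 : 7 ∣ Nat.card (closure genSet) :=
    el_sevenC.1 ▸ Subgroup.orderOf_dvd_natCard _ (target_mem (by simp [genTargets]))
  have h3 : 3 ∣ Nat.card (closure genSet) :=
    el_sevenC.2.1 ▸ Subgroup.orderOf_dvd_natCard _ (target_mem (by simp [genTargets]))
  have h := Nat.Coprime.mul_dvd_of_dvd_of_dvd (show Nat.Coprime (1024 * 7) 3 by norm_num)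
    (Nat.Coprime.mul_dvd_of_dvd_of_dvd (by norm_num) h1 h7) h3
  rw [Cen.natCard]
  exact Nat.dvd_antisymm ((Subgroup.card_subgroup_dvd_card _).trans (Cen.natCard splitTab).dvd) h

/-- what the generators preserve is preserved by all -/
theorem induction_gen {P : Cen splitTab → Prop} (h1 : P 1) (hmul : ∀ x y, P x → P y → P (x * y))
    (hgen : ∀ g ∈ gensC, P (el g)) (x : Cen splitTab) : P x := by
  have hx : x ∈ (closure genSet).toSubmonoid := by rw [gen_top]; trivial
  rw [Subgroup.closure_toSubmonoid_of_finite] at hx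
  refine Submonoid.closure_induction (fun y hy => ?_) h1 (fun a b _ _ => hmul a b) hx
  rw [← el_of_val y]
  exact hgen _ hy

theorem z_central (x : Cen splitTab) : x * el zCode = el zCode * x :=
  induction_gen (P := fun x => x * el zCode = el zCode * x) (by simp) (fun a b ha hb => by
    rw [mul_assoc, hb, ← mul_assoc, ha, mul_assoc]) (fun _ hg => (el_gen hg).2.2.2) x

theorem classL_lt {c n : ℕ} (hc : c < 7) (hn : n ∈ classL c) : n < 21504 ∧ el n * el n = 1 ∧ n ≠ 0 ∧ n ≠ zCode := by
  have hall : n ∈ allClasses := List.mem_flatMap.2 ⟨c, List.mem_range.2 hc, hn⟩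
  have h := classes_ok
  simp only [List.all_eq_true, Bool.and_eq_true, decide_eq_true_eq, beq_iff_eq] at h
  obtain ⟨h1, h2⟩ := h n hall
  have hd := (List.nodup_append.1 classes_nodup).2.2 n hall
  exact ⟨h1, by rw [← el_mul h1 h1, h2, el_zero], fun e => hd 0 (by simp) e, fun e => hd zCode (by simp) e⟩

/-- a class is closed under conjugation -/
theorem class_conj {c n : ℕ} (hc : c < 7) (hn : n ∈ classL c) (x : Cen splitTab) :
    (x * el n * x⁻¹).val ∈ classL c := by
  revert n
  refine induction_gen (P := fun x => ∀ {n : ℕ}, n ∈ classL c → (x * el n * x⁻¹).val ∈ classL c) ?_ ?_ ?_ x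
  · intro n hn
    rwa [one_mul, inv_one, mul_one, el_val (classL_lt hc hn).1]
  · intro a b ha hb n hn
    have h := ha (hb hn)
    rwa [el_of_val, show a * (b * el n * b⁻¹) * a⁻¹ = a * b * el n * (a * b)⁻¹ by group] at h
  · intro g hg n hn
    obtain ⟨hlt, -, hg2, -⟩ := el_gen hg
    have h := classes_closed
    simp only [List.all_eq_true, List.mem_range, List.contains_iff_mem] at h
    have h' := h c hc n hn g hg
    have hn' := (classL_lt hc hn).1
    rw [inv_eq_of_mul_eq_one_right hg2, ← el_mul hlt hn', ← el_mul (mulC_lt hlt hn') hlt,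
      el_val (mulC_lt (mulC_lt hlt hn') hlt)]
    exact h'

/-- a class is connected -/
theorem class_isConj {c : ℕ} (hc : c < 7) : ∀ {n : ℕ}, n ∈ classL c → IsConj (el ((classL c).getD 0 0)) (el n) := by
  have key : ∀ i, i < (classL c).length → IsConj (el ((classL c).getD 0 0)) (el ((classL c).getD i 0)) := by
    intro i
    induction i using Nat.strong_induction_on with
    | _ i ih =>
      intro hi
      rcases Nat.eq_zero_or_pos i with rfl | hpos
      · exact IsConj.refl _
      have h := trees_ok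
      simp only [List.all_eq_true, List.mem_range, Bool.and_eq_true, decide_eq_true_eq, Bool.or_eq_true,
        beq_iff_eq] at h
      obtain ⟨⟨h1, h2⟩, h3⟩ := ((h c hc).2 i hi).resolve_left (by omega)
      have hg : gensC.getD ((treeL c).getD i 0 % 8) 0 ∈ gensC := by
        have h6 : gensC.length = 6 := rfl
        rw [getD_get _ _ (by rw [h6]; exact h2)]
        exact List.getElem_mem _
      obtain ⟨hlt, -, hg2, -⟩ := el_gen hg
      have hy : (classL c).getD ((treeL c).getD i 0 / 8) 0 ∈ classL c := by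
        rw [getD_get _ _ (h1.trans hi)]
        exact List.getElem_mem _
      have hy' := (classL_lt hc hy).1
      refine (ih _ h1 (h1.trans hi)).trans ?_
      rw [h3, el_mul (mulC_lt hlt hy') hlt, el_mul hlt hy']
      exact isConj_iff.2 ⟨el (gensC.getD ((treeL c).getD i 0 % 8) 0), by rw [inv_eq_of_mul_eq_one_right hg2]⟩
  intro n hn
  obtain ⟨i, hi, rfl⟩ := List.mem_iff_getElem.1 hn
  rw [← getD_get (classL c) 0 hi]
  exact key i hi

/-- **the involutions** -/
theorem invol_cases (x : Cen splitTab) (hx : x * x = 1) :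
    x = 1 ∨ x = el zCode ∨ ∃ c < 7, x.val ∈ classL c := by
  haveI : Fact (Nat.Prime 2) := ⟨Nat.prime_two⟩
  have hS2 : IsPGroup 2 sylC := IsPGroup.of_card (n := 10) (by rw [card_sylC]; norm_num)
  have hidx : sylC.index = 21 := by
    have h := sylC.card_mul_index
    rw [card_sylC, Cen.natCard] at h
    omega
  let S : Sylow 2 (Cen splitTab) := hS2.toSylow (by rw [hidx]; norm_num)
  have hp : IsPGroup 2 (zpowers x) := by
    rintro ⟨y, hy⟩
    obtain ⟨k, rfl⟩ := mem_zpowers_iff.1 hy
    exact ⟨1, Subtype.ext (by push_cast; rw [← zpow_natCast, ← zpow_mul, mul_comm, zpow_mul, zpow_natCast,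
      pow_two, hx, one_zpow])⟩
  obtain ⟨T, hT⟩ := hp.exists_le_sylow
  obtain ⟨g, rfl⟩ := MulAction.exists_smul_eq (Cen splitTab) S T
  have hmem := hT (mem_zpowers x)
  rw [Sylow.coe_subgroup_smul] at hmem
  obtain ⟨s, hs, rfl⟩ := hmem
  have hs2 : s * s = 1 := by
    apply (MulAut.conj g).injective
    rw [map_mul, map_one]
    exact hx
  have h := sylow_invol
  simp only [List.all_eq_true, Bool.or_eq_true, Bool.not_eq_eq_eq_not, Bool.not_true, beq_eq_false_iff_ne,
    beq_iff_eq, List.contains_iff_mem] at h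
  rcases h _ (inS_mem_sList (mem_sylC.1 hs)) with ((h1 | h1) | h1) | h1
  · refine absurd ?_ h1
    show splitTab.mul s.val s.val = 0
    rw [← split_mul_val, hs2, split_one_val]
  · left
    rw [show s = 1 from Cen.ext (h1.trans split_one_val.symm)]
    exact map_one _
  · right; left
    show g * s * g⁻¹ = el zCode
    rw [show s = el zCode from Cen.ext (h1.trans (el_val (by norm_num [zCode])).symm), z_central,
      mul_inv_cancel_right]
  · right; right
    obtain ⟨c, hc, hsc⟩ := List.mem_flatMap.1 h1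
    refine ⟨c, List.mem_range.1 hc, ?_⟩
    show (g * s * g⁻¹).val ∈ classL c
    rw [← el_of_val s]
    exact class_conj (List.mem_range.1 hc) hsc g

/-- membership in `A` -/
noncomputable def subA : Subgroup (Cen splitTab) :=
  listSub (fun n => aList.contains n) (by
    simp only [List.contains_iff_mem]
    rw [← side_special.1, aCode, getD_get _ _ (by rw [side_codes.2.2.1]; norm_num)]
    exact List.getElem_mem _)
    (fun n h => by
      have h1 := side_codes.1
      simp only [List.all_eq_true] at h1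
      exact inS_lt (h1 n (List.contains_iff_mem.1 h)))
    fun a b ha hb => by
      rw [List.contains_iff_mem] at *
      obtain ⟨i, hi, rfl⟩ := List.mem_iff_getElem.1 ha
      obtain ⟨j, hj, rfl⟩ := List.mem_iff_getElem.1 hb
      rw [side_codes.2.2.1] at hi hj
      have h := side_xor
      simp only [List.all_eq_true, List.mem_range, Bool.and_eq_true, beq_iff_eq] at h
      have h' := (h i hi j hj).1
      simp only [aCode] at h'
      rw [getD_get _ _ (by rw [side_codes.2.2.1]; exact hi),
        getD_get _ _ (by rw [side_codes.2.2.1]; exact hj)] at h'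
      rw [h', getD_get _ _ (by rw [side_codes.2.2.1]; exact Nat.xor_lt_two_pow (n := 6) hi hj)]
      exact List.getElem_mem _

/-- membership in `B` -/
noncomputable def subB : Subgroup (Cen splitTab) :=
  listSub (fun n => bList.contains n) (by
    simp only [List.contains_iff_mem]
    rw [← side_special.2.1, bCode, getD_get _ _ (by rw [side_codes.2.2.2.1]; norm_num)]
    exact List.getElem_mem _)
    (fun n h => by
      have h1 := side_codes.2.1
      simp only [List.all_eq_true] at h1
      exact inS_lt (h1 n (List.contains_iff_mem.1 h)))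
    fun a b ha hb => by
      rw [List.contains_iff_mem] at *
      obtain ⟨i, hi, rfl⟩ := List.mem_iff_getElem.1 ha
      obtain ⟨j, hj, rfl⟩ := List.mem_iff_getElem.1 hb
      rw [side_codes.2.2.2.1] at hi hj
      have h := side_xor
      simp only [List.all_eq_true, List.mem_range, Bool.and_eq_true, beq_iff_eq] at h
      have h' := (h i hi j hj).2
      simp only [bCode] at h'
      rw [getD_get _ _ (by rw [side_codes.2.2.2.1]; exact hi),
        getD_get _ _ (by rw [side_codes.2.2.2.1]; exact hj)] at h'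
      rw [h', getD_get _ _ (by rw [side_codes.2.2.2.1]; exact Nat.xor_lt_two_pow (n := 6) hi hj)]
      exact List.getElem_mem _

theorem mem_subA {x : Cen splitTab} : x ∈ subA ↔ x.val ∈ aList := List.contains_iff_mem

theorem mem_subB {x : Cen splitTab} : x ∈ subB ↔ x.val ∈ bList := List.contains_iff_mem

/-- a subgroup normalised by the Sylow subgroup and an element of order three, and not normal -/
theorem card_normalizer_of (L : List ℕ) (H : Subgroup (Cen splitTab)) (hH : ∀ x, x ∈ H ↔ x.val ∈ L) (w : ℕ)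
    (hw : w < 21504) (hw3 : orderOf (el w) = 3)
    (hnorm : ∀ n ∈ L, mulC (mulC (mulC w w) n) w ∈ L ∧ ∀ g ∈ rootsC, mulC (mulC g n) g ∈ L)
    (hlt : ∀ n ∈ L, n < 21504) {g₀ : ℕ} (hg₀ : g₀ ∈ gensC)
    (hnot : ∃ n ∈ L, mulC (mulC g₀ n) g₀ ∉ L) :
    Nat.card (normalizer (H : Set (Cen splitTab))) = 3072 ∧ sylC ≤ normalizer (H : Set (Cen splitTab)) := by
  have hmk : ∀ (x : Cen splitTab), (∀ n ∈ L, (x * el n * x⁻¹).val ∈ L) → x ∈ normalizer (H : Set (Cen splitTab)) :=
    fun x hx => by
      have heq : H.map (MulAut.conj x).toMonoidHom = H := by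
        refine Subgroup.eq_of_le_of_card_ge ?_ (Subgroup.card_map_of_injective (MulAut.conj x).injective).ge
        rintro _ ⟨y, hy, rfl⟩
        refine (hH _).2 ?_
        have h := hx y.val ((hH y).1 hy)
        rwa [el_of_val] at h
      refine Subgroup.mem_set_normalizer_iff.2 fun y => ⟨fun hy => heq ▸ ⟨y, hy, rfl⟩, fun hy => ?_⟩
      obtain ⟨a, ha, e⟩ := (heq.symm ▸ hy : x * y * x⁻¹ ∈ H.map (MulAut.conj x).toMonoidHom)
      exact (MulAut.conj x).injective e ▸ ha
  have hroot : ∀ g ∈ rootsC, el g ∈ normalizer (H : Set (Cen splitTab)) := fun g hg => hmk _ fun n hn => by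
    obtain ⟨hg1, -, hg2⟩ := roots_mem_sylC hg
    rw [inv_eq_of_mul_eq_one_right hg2, ← el_mul hg1 (hlt n hn), ← el_mul (mulC_lt hg1 (hlt n hn)) hg1,
      el_val (mulC_lt (mulC_lt hg1 (hlt n hn)) hg1)]
    exact (hnorm n hn).2 g hg
  have hS : sylC ≤ normalizer (H : Set (Cen splitTab)) := sylC_le _ hroot
  refine ⟨?_, hS⟩
  have hw' : (el w)⁻¹ ∈ normalizer (H : Set (Cen splitTab)) := hmk _ fun n hn => by
    have hinv : (el w)⁻¹ = el (mulC w w) := by
      refine inv_eq_of_mul_eq_one_right ?_
      rw [el_mul hw hw, ← mul_assoc, ← pow_two, ← pow_succ, show (2 + 1 : ℕ) = orderOf (el w) from hw3.symm, pow_orderOf_eq_one]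
    rw [inv_inv, hinv, ← el_mul (mulC_lt hw hw) (hlt n hn), ← el_mul (mulC_lt (mulC_lt hw hw) (hlt n hn)) hw,
      el_val (mulC_lt (mulC_lt (mulC_lt hw hw) (hlt n hn)) hw)]
    exact (hnorm n hn).1
  have h1 : 1024 ∣ Nat.card (normalizer (H : Set (Cen splitTab))) := card_sylC ▸ Subgroup.card_dvd_of_le hS
  have h3 : 3 ∣ Nat.card (normalizer (H : Set (Cen splitTab))) :=
    hw3 ▸ Subgroup.orderOf_dvd_natCard _ ((Subgroup.inv_mem_iff _).1 hw')
  have hd : 3072 ∣ Nat.card (normalizer (H : Set (Cen splitTab))) :=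
    Nat.Coprime.mul_dvd_of_dvd_of_dvd (m := 1024) (n := 3) (by norm_num) h1 h3
  have hle := Subgroup.card_subgroup_dvd_card (normalizer (H : Set (Cen splitTab)))
  rw [Cen.natCard] at hle
  obtain ⟨j, hj⟩ := hd
  rw [hj] at hle
  have hj7 : j ∣ 7 := Nat.dvd_of_mul_dvd_mul_left (show 0 < 3072 by norm_num) hle
  rcases (Nat.dvd_prime (show Nat.Prime 7 by decide)).1 hj7 with rfl | rfl
  · exact hj
  · exfalso
    obtain ⟨n, hn, hn'⟩ := hnot
    obtain ⟨hgl, -, hg2, -⟩ := el_gen hg₀
    have htop : normalizer (H : Set (Cen splitTab)) = ⊤ :=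
      Subgroup.eq_top_of_card_eq _ (by rw [hj, Cen.natCard])
    have hmem : el g₀ * el n * (el g₀)⁻¹ ∈ H :=
      (Subgroup.mem_set_normalizer_iff.1 (htop ▸ mem_top (el g₀)) _).1 ((hH _).2 (by rwa [el_val (hlt n hn)]))
    rw [inv_eq_of_mul_eq_one_right hg2, ← el_mul hgl (hlt n hn), ← el_mul (mulC_lt hgl (hlt n hn)) hgl, hH,
      el_val (mulC_lt (mulC_lt hgl (hlt n hn)) hgl)] at hmem
    exact hn' hmem

theorem aList_lt {n : ℕ} (h : n ∈ aList) : inS n = true := by
  have h1 := side_codes.1
  simp only [List.all_eq_true] at h1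
  exact h1 n h

theorem bList_lt {n : ℕ} (h : n ∈ bList) : inS n = true := by
  have h1 := side_codes.2.1
  simp only [List.all_eq_true] at h1
  exact h1 n h

theorem normalizer_subA : Nat.card (normalizer (subA : Set (Cen splitTab))) = 3072 ∧
    sylC ≤ normalizer (subA : Set (Cen splitTab)) := by
  refine card_normalizer_of aList subA (fun x => mem_subA) threeA (by norm_num [threeA]) el_sevenC.2.1 ?_
    (fun n hn => inS_lt (aList_lt hn)) (g₀ := gensC.getD 4 0) (by decide) ?_
  · have h := normalize_ok.1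
    simp only [List.all_eq_true, Bool.and_eq_true, List.contains_iff_mem] at h
    exact h
  · simpa [List.any_eq_true] using not_normal.1

theorem normalizer_subB : Nat.card (normalizer (subB : Set (Cen splitTab))) = 3072 ∧
    sylC ≤ normalizer (subB : Set (Cen splitTab)) := by
  refine card_normalizer_of bList subB (fun x => mem_subB) threeB (by norm_num [threeB]) el_sevenC.2.2 ?_
    (fun n hn => inS_lt (bList_lt hn)) (g₀ := gensC.getD 2 0) (by decide) ?_
  · have h := normalize_ok.2
    simp only [List.all_eq_true, Bool.and_eq_true, List.contains_iff_mem] at h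
    exact h
  · simpa [List.any_eq_true] using not_normal.2

end CfsgLib.Spor.HeldFusion
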