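import Mathlib.Data.List.Basic
import Mathlib.Tactic.NormNum

/-!
# Held type groups: the label sets compatible with the two elementary subgroups of order 64

An element of `A` (rows 1-3, columns 4-5) or `B` (rows 1-2, columns 3-5) is coded by six bits, its class in the
centraliser by a label: 0-6 for the seven classes other than the central involution (8); 9 is the identity.
-/

set_option autoImplicit false

namespace CfsgLib.Spor.HeldFusion

/-- the labels of the elements of `A` -/
def labA : List ℕ := [9, 0, 8, 0, 3, 3, 4, 4, 1, 2, 1, 2, 3, 4, 4, 3, 3, 3, 4, 4, 3, 3, 4, 4, 5, 5, 5, 5, 5, 5, 5, 5, 1, 2, 1, 2, 5, 5, 5, 5, 1, 2, 1, 2, 5, 5, 5, 5, 3, 4, 4, 3, 5, 5, 5, 5, 5, 5, 5, 5, 3, 4, 4, 3]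

/-- the labels of the elements of `B` -/
def labB : List ℕ := [9, 0, 0, 0, 8, 0, 0, 0, 3, 3, 6, 6, 4, 4, 6, 6, 3, 6, 3, 6, 4, 6, 4, 6, 3, 6, 6, 3, 4, 6, 6, 4, 1, 2, 2, 2, 1, 2, 2, 2, 3, 4, 6, 6, 4, 3, 6, 6, 3, 6, 4, 6, 4, 6, 3, 6, 3, 6, 6, 4, 4, 6, 6, 3]

/-- the class sizes of the labels 0-6 -/
def sizeC : List ℕ := [14, 14, 42, 84, 84, 168, 168]

/-- the label `c` belongs to the class of the central involution in the pattern `m` -/
def inZ (m c : ℕ) : Bool := c == 8 || (decide (c < 7) && m.testBit c)

/-- the elements of the list of labels in the class -/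
def omegaL (L : List ℕ) (m : ℕ) : List ℕ := (List.range 64).filter fun v => inZ m (L.getD v 9)

/-- the number of elements of the class moved into it by `v` -/
def degL (L : List ℕ) (m v : ℕ) : ℕ := ((omegaL L m).filter fun w => inZ m (L.getD (w ^^^ v) 9)).length

/-- the number of conjugates in the centraliser -/
def nFix (m : ℕ) : ℕ := 1 + ((List.range 7).map fun c => if m.testBit c then sizeC.getD c 0 else 0).sum

/-- the local conditions -/
def localOK (L : List ℕ) (m : ℕ) : Bool :=
  decide ((omegaL L m).length ∣ 1311975) &&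
    ((omegaL L m).map (degL L m)).all (fun d => d == degL L m ((omegaL L m).headD 0))

/-- all conditions: local on both sides, and the congruence if one of the two transvection classes is fused -/
def patternOK (m : ℕ) : Bool :=
  localOK labA m && localOK labB m && (!(m.testBit 0 || m.testBit 1) || nFix m % 16 == 1)

/-- **the surviving patterns** -/
theorem pattern_cases : ((List.range 128).filter patternOK) = [0, 11, 107] := by decide +kernel

theorem pattern_cases' {m : ℕ} (hm : m < 128) (h : patternOK m = true) : m = 0 ∨ m = 11 ∨ m = 107 := by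
  have : m ∈ (List.range 128).filter patternOK := List.mem_filter.2 ⟨List.mem_range.2 hm, h⟩
  rw [pattern_cases] at this
  simpa using this

end CfsgLib.Spor.HeldFusion
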