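import Cfsg.Agent.Lib.Spor.HeldFusion.Code
import Cfsg.Agent.Lib.Spor.HeldFusion.Patterns

/-!
# Held type groups: certificates about the centraliser
-/

set_option autoImplicit false
set_option maxRecDepth 100000

namespace CfsgLib.Spor.HeldFusion

open CfsgLib.Spor.HeldRecog

theorem res_closed : (sRes.all fun a => sRes.all fun b => sRes.contains (splitTab.lmul a b)) = true ∧
    sRes.contains 0 = true ∧ sRes.Nodup ∧ sRes.length = 8 ∧ (sRes.all fun a => decide (a < 168)) = true := by
  decide +kernel

theorem gens_ok : (gensC.all fun g => decide (g < 21504) && (mulC g g == 0 && (mulC g zCode == mulC zCode g))) = true ∧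
    (rootsC.all fun g => inS g && (mulC g g == 0)) = true ∧ inS zCode = true := by decide +kernel

theorem words_ok : (genWords.map fun w => (w.map fun k => gensC.getD k 0).foldl mulC 0) = genTargets ∧
    (genWords.all fun w => w.all fun k => decide (k < 6)) = true := by decide +kernel

theorem roots_generate :
    ((List.range 1024).map fun k =>
      (((List.range 10).filter fun b => k.testBit b).map fun b => rootsC.getD b 0).foldl mulC 0).Nodup := by
  decide +kernel

theorem seven_three : ((List.range 7).foldl (fun acc _ => mulC acc sevenC) 0 = 0 ∧ sevenC ≠ 0) ∧
    (mulC (mulC threeA threeA) threeA = 0 ∧ threeA ≠ 0) ∧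
    (mulC (mulC threeB threeB) threeB = 0 ∧ threeB ≠ 0) := by decide +kernel

theorem side_codes : (aList.all inS) = true ∧ (bList.all inS) = true ∧ aList.length = 64 ∧ bList.length = 64 ∧
    aList.Nodup ∧ bList.Nodup := by decide +kernel

theorem side_xor : ((List.range 64).all fun v => (List.range 64).all fun w =>
    mulC (aCode v) (aCode w) == aCode (v ^^^ w) && mulC (bCode v) (bCode w) == bCode (v ^^^ w)) = true := by
  decide +kernel

theorem side_special : aCode 0 = 0 ∧ bCode 0 = 0 ∧ aCode 2 = zCode ∧ bCode 4 = zCode := by decide +kernel

/-- the element is in the class of its label -/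
def labelled (code : ℕ → ℕ) (L : List ℕ) : Bool :=
  (List.range 64).all fun v => L.getD v 9 == 9 && v == 0 || L.getD v 9 == 8 && code v == zCode ||
    decide (L.getD v 9 < 7) && (classL (L.getD v 9)).contains (code v)

theorem labels_ok : labelled aCode labA = true ∧ labelled bCode labB = true := by decide +kernel

theorem trees_ok : ((List.range 7).all fun c => decide ((classL c).length = sizeC.getD c 0) &&
    (List.range (classL c).length).all fun i => i == 0 ||
      decide ((treeL c).getD i 0 / 8 < i) && decide ((treeL c).getD i 0 % 8 < 6) &&
        (classL c).getD i 0 == mulC (mulC (gensC.getD ((treeL c).getD i 0 % 8) 0)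
          ((classL c).getD ((treeL c).getD i 0 / 8) 0)) (gensC.getD ((treeL c).getD i 0 % 8) 0)) = true := by
  decide +kernel

theorem classes_closed : ((List.range 7).all fun c => (classL c).all fun x => gensC.all fun g =>
    (classL c).contains (mulC (mulC g x) g)) = true := by decide +kernel

/-- all involutions of the centraliser other than the central one -/
def allClasses : List ℕ := (List.range 7).flatMap classL

theorem classes_nodup : (allClasses ++ [zCode, 0]).Nodup := by decide +kernel

theorem classes_ok : (allClasses.all fun x => decide (x < 21504) && (mulC x x == 0)) = true := by decide +kernel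

theorem sylow_invol : (sList.all fun x => !(mulC x x == 0) || x == 0 || x == zCode || allClasses.contains x) = true := by
  decide +kernel

/-- the elements of order at most two of the Sylow subgroup -/
noncomputable def sInvol : List ℕ := sList.filter fun x => mulC x x == 0

theorem few_commuting : (sInvol.all fun x => aList.contains x || bList.contains x ||
    decide ((sInvol.filter fun y => mulC x y == mulC y x).length < 64)) = true := by decide +kernel

theorem centre_unique : (sInvol.all fun x => x == 0 || x == zCode ||
    rootsC.any fun g => !(mulC g x == mulC x g)) = true ∧
    (sList.all fun x => mulC x zCode == mulC zCode x) = true := by decide +kernel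

theorem distinguish : (bList.all fun x => !(classL 5).contains x) = true ∧ (classL 5).contains (aCode 24) = true := by
  decide +kernel

theorem normalize_ok :
    (aList.all fun x => aList.contains (mulC (mulC (mulC threeA threeA) x) threeA) &&
      rootsC.all fun g => aList.contains (mulC (mulC g x) g)) = true ∧
    (bList.all fun x => bList.contains (mulC (mulC (mulC threeB threeB) x) threeB) &&
      rootsC.all fun g => bList.contains (mulC (mulC g x) g)) = true := by decide +kernel

theorem not_normal : (aList.any fun x => !aList.contains (mulC (mulC (gensC.getD 4 0) x) (gensC.getD 4 0))) = true ∧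
    (bList.any fun x => !bList.contains (mulC (mulC (gensC.getD 2 0) x) (gensC.getD 2 0))) = true := by
  decide +kernel

/-- the two subgroups of order sixteen -/
def fourCodes (c : ℕ) : List ℕ := 0 :: zCode :: classL c

theorem four_closed : ((fourCodes 0).all fun x => (fourCodes 0).all fun y => (fourCodes 0).contains (mulC x y)) = true ∧
    ((fourCodes 1).all fun x => (fourCodes 1).all fun y => (fourCodes 1).contains (mulC x y)) = true := by
  decide +kernel

end CfsgLib.Spor.HeldFusion
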