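import Mathlib.GroupTheory.Sylow
import Mathlib.SetTheory.Cardinal.Finite
import Mathlib.GroupTheory.SpecificGroups.Cyclic

/-!
# Held type groups: two elementary subgroups of order 64 in a Sylow 2-subgroup are weakly closed
-/

set_option autoImplicit false
set_option linter.unusedSectionVars false
set_option linter.style.haveILetI false

namespace CfsgLib.Spor.HeldFusion

open Subgroup

variable {G : Type*} [Group G] [Finite G]

/-- a subgroup of exponent two and order 64 in the union bound -/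
theorem eq_of_few_commuting (S A B E : Subgroup G)
    (hA : Nat.card A = 64) (hB : Nat.card B = 64)
    (hfew : ∀ x ∈ S, x ∉ A → x ∉ B → x * x = 1 →
      Nat.card {y : G // y ∈ S ∧ y * y = 1 ∧ Commute x y} < 64)
    (hES : E ≤ S) (hE : Nat.card E = 64) (hel : ∀ a ∈ E, a * a = 1) (hab : ∀ a ∈ E, ∀ b ∈ E, a * b = b * a) :
    E = A ∨ E = B := by
  have hu : ∀ x ∈ E, x ∈ A ∨ x ∈ B := fun x hx => by
    by_contra! h
    refine (hfew x (hES hx) h.1 h.2 (hel x hx)).not_ge ?_
    rw [← hE]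
    exact Nat.card_le_card_of_injective
      (fun y : E => (⟨y.1, hES y.2, hel y y.2, hab x hx y y.2⟩ : {y : G // y ∈ S ∧ y * y = 1 ∧ Commute x y}))
      fun a b h => Subtype.ext (by simpa using h)
  rcases em (E ≤ A) with h | h
  · exact Or.inl (Subgroup.eq_of_le_of_card_ge h (by rw [hE, hA]))
  · refine Or.inr (Subgroup.eq_of_le_of_card_ge (fun x hx => ?_) (by rw [hE, hB]))
    obtain ⟨y, hy, hyA⟩ := SetLike.not_le_iff_exists.1 h
    have hyB := (hu y hy).resolve_left hyA
    rcases hu x hx with hxA | hxB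
    · rcases hu (x * y) (mul_mem hx hy) with h' | h'
      · exact absurd ((A.mul_mem_cancel_left hxA).1 h') hyA
      · exact (B.mul_mem_cancel_right hyB).1 h'
    · exact hxB

/-- **weak closure** -/
theorem closed_of_two (S : Sylow 2 G) {z : G} (A B : Subgroup G) (hAS : A ≤ S) (hBS : B ≤ S)
    (hA : Nat.card A = 64) (hB : Nat.card B = 64) (hAel : ∀ a ∈ A, a * a = 1) (hAab : ∀ a ∈ A, ∀ b ∈ A, a * b = b * a)
    (hfew : ∀ x ∈ (S : Subgroup G), x ∉ A → x ∉ B → x * x = 1 →
      Nat.card {y : G // y ∈ (S : Subgroup G) ∧ y * y = 1 ∧ Commute x y} < 64)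
    (hSB : (S : Subgroup G) ≤ normalizer (B : Set G))
    (hz : z * z = 1 ∧ z ≠ 1 ∧ z ∈ (S : Subgroup G) ∧ ∀ s ∈ (S : Subgroup G), s * z = z * s)
    (huniq : ∀ x ∈ (S : Subgroup G), x * x = 1 → x ≠ 1 → (∀ s ∈ (S : Subgroup G), s * x = x * s) → x = z)
    (hnc : ∀ c ∈ centralizer ({z} : Set G), A.map (MulAut.conj c).toMonoidHom ≠ B) (g : G)
    (hg : IsPGroup 2 (A ⊔ A.map (MulAut.conj g).toMonoidHom : Subgroup G)) :
    A.map (MulAut.conj g).toMonoidHom = A := by
  haveI : Fact (Nat.Prime 2) := ⟨Nat.prime_two⟩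
  obtain ⟨T, hT⟩ := hg.exists_le_sylow
  obtain ⟨h, rfl⟩ := MulAction.exists_smul_eq G S T
  have hin : ∀ k : G, A.map (MulAut.conj k).toMonoidHom ≤ (S : Subgroup G) →
      A.map (MulAut.conj k).toMonoidHom = A ∨ A.map (MulAut.conj k).toMonoidHom = B := fun k hk =>
    eq_of_few_commuting _ A B _ hA hB hfew hk
      (by rw [Subgroup.card_map_of_injective (MulAut.conj k).injective, hA])
      (by
        rintro _ ⟨a, ha, rfl⟩
        rw [← map_mul, hAel a ha, map_one])
      (by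
        rintro _ ⟨a, ha, rfl⟩ _ ⟨b, hb, rfl⟩
        rw [← map_mul, ← map_mul, hAab a ha b hb])
  have hnotB : ∀ k : G, A.map (MulAut.conj k).toMonoidHom = B →
      (S : Subgroup G) ≤ normalizer (A : Set G) → False := fun k hk hSA => by
    have hkS : ((k • S : Sylow 2 G) : Subgroup G) ≤ normalizer (B : Set G) := by
      rw [Sylow.coe_subgroup_smul, ← hk]
      rintro _ ⟨s, hs, rfl⟩
      have h1 : ∀ a ∈ A, s * a * s⁻¹ ∈ A := fun a ha => (Subgroup.mem_set_normalizer_iff.1 (hSA hs) a).1 ha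
      refine Subgroup.mem_set_normalizer_iff.2 fun w => ?_
      show w ∈ A.map (MulAut.conj k).toMonoidHom ↔
        k * s * k⁻¹ * w * (k * s * k⁻¹)⁻¹ ∈ A.map (MulAut.conj k).toMonoidHom
      constructor
      · rintro ⟨a, ha, rfl⟩
        refine ⟨s * a * s⁻¹, h1 a ha, ?_⟩
        show k * (s * a * s⁻¹) * k⁻¹ = k * s * k⁻¹ * (k * a * k⁻¹) * (k * s * k⁻¹)⁻¹
        group
      · rintro ⟨a, ha, he⟩
        refine ⟨s⁻¹ * a * s, ?_, ?_⟩
        · have := (Subgroup.mem_set_normalizer_iff.1 (inv_mem (hSA hs)) a).1 ha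
          rwa [inv_inv] at this
        · show k * (s⁻¹ * a * s) * k⁻¹ = w
          have he' : k * a * k⁻¹ = k * s * k⁻¹ * w * (k * s * k⁻¹)⁻¹ := he
          calc k * (s⁻¹ * a * s) * k⁻¹ = (k * s * k⁻¹)⁻¹ * (k * a * k⁻¹) * (k * s * k⁻¹) := by group
            _ = w := by rw [he']; group
    obtain ⟨n, hn⟩ := MulAction.exists_smul_eq (normalizer (B : Set G)) ((k • S).subtype hkS) (S.subtype hSB)
    have hnk : ((n : G) * k) • S = S := by
      simp_rw [Sylow.smul_subtype, Subgroup.smul_def, smul_smul] at hn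
      exact Sylow.subtype_injective hn
    have hmem : (n : G) * k ∈ normalizer ((S : Subgroup G) : Set G) := Sylow.smul_eq_iff_mem_normalizer.1 hnk
    have hcz : (n : G) * k ∈ centralizer ({z} : Set G) := by
      refine mem_centralizer_singleton_iff.2 (mul_inv_eq_iff_eq_mul.1 ?_)
      obtain ⟨hz2, hz1, hzS, hzc⟩ := hz
      refine huniq _ ((Subgroup.mem_set_normalizer_iff.1 hmem z).1 hzS) ?_ ?_ fun s hs => ?_
      · rw [show (n : G) * k * z * ((n : G) * k)⁻¹ * ((n : G) * k * z * ((n : G) * k)⁻¹) =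
          (n : G) * k * (z * z) * ((n : G) * k)⁻¹ by group, hz2, mul_one, mul_inv_cancel]
      · rw [Ne, conj_eq_one_iff]
        exact hz1
      · have hs' := (Subgroup.mem_set_normalizer_iff.1 (inv_mem hmem) s).1 hs
        rw [inv_inv] at hs'
        have := hzc _ hs'
        calc s * ((n : G) * k * z * ((n : G) * k)⁻¹)
            = (n : G) * k * ((((n : G) * k)⁻¹ * s * ((n : G) * k)) * z) * ((n : G) * k)⁻¹ := by group
          _ = (n : G) * k * (z * (((n : G) * k)⁻¹ * s * ((n : G) * k))) * ((n : G) * k)⁻¹ := by rw [this]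
          _ = _ := by group
    refine hnc _ hcz ?_
    have h2 : (A.map (MulAut.conj k).toMonoidHom).map (MulAut.conj (n : G)).toMonoidHom = B := by
      rw [hk]
      refine Subgroup.eq_of_le_of_card_ge ?_ (Subgroup.card_map_of_injective (MulAut.conj (n : G)).injective).ge
      rintro _ ⟨b, hb, rfl⟩
      exact (Subgroup.mem_set_normalizer_iff.1 n.2 b).1 hb
    rwa [Subgroup.map_map, show ((MulAut.conj (n : G)).toMonoidHom.comp (MulAut.conj k).toMonoidHom) =
      (MulAut.conj ((n : G) * k)).toMonoidHom by rw [map_mul]; rfl] at h2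
  have hSA : (S : Subgroup G) ≤ normalizer (A : Set G) := fun s hs => by
    refine Subgroup.mem_set_normalizer_iff.2 fun a => ?_
    have h' : A.map (MulAut.conj s).toMonoidHom = A := by
      rcases hin s (by rintro _ ⟨a, ha, rfl⟩; exact mul_mem (mul_mem hs (hAS ha)) (inv_mem hs)) with e | e
      · exact e
      · exfalso
        refine hnc s (mem_centralizer_singleton_iff.2 (hz.2.2.2 s hs)) e
    constructor
    · exact fun ha => h' ▸ ⟨a, ha, rfl⟩
    · intro ha
      obtain ⟨b, hb, e⟩ := (h'.symm ▸ ha : s * a * s⁻¹ ∈ A.map (MulAut.conj s).toMonoidHom)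
      exact (MulAut.conj s).injective e ▸ hb
  have key : ∀ k : G, A.map (MulAut.conj k).toMonoidHom ≤ (S : Subgroup G) →
      A.map (MulAut.conj k).toMonoidHom = A := fun k hk =>
    (hin k hk).resolve_right fun e => hnotB k e hSA
  have hconj : ∀ w ∈ ((h • S : Sylow 2 G) : Subgroup G), h⁻¹ * w * h ∈ (S : Subgroup G) := by
    intro w hw
    rw [Sylow.coe_subgroup_smul] at hw
    obtain ⟨s, hs, rfl⟩ := hw
    show h⁻¹ * (h * s * h⁻¹) * h ∈ (S : Subgroup G)
    rwa [show h⁻¹ * (h * s * h⁻¹) * h = s by group]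
  have h1 := key h⁻¹ (by
    rintro _ ⟨a, ha, rfl⟩
    show h⁻¹ * a * h⁻¹⁻¹ ∈ (S : Subgroup G)
    rw [inv_inv]
    exact hconj a (hT (mem_sup_left ha)))
  have h2 := key (h⁻¹ * g) (by
    rintro _ ⟨a, ha, rfl⟩
    show h⁻¹ * g * a * (h⁻¹ * g)⁻¹ ∈ (S : Subgroup G)
    rw [show h⁻¹ * g * a * (h⁻¹ * g)⁻¹ = h⁻¹ * (g * a * g⁻¹) * h by group]
    exact hconj _ (hT (mem_sup_right ⟨a, ha, rfl⟩)))
  have h3 : (MulAut.conj (h⁻¹ * g)).toMonoidHom = (MulAut.conj h⁻¹).toMonoidHom.comp (MulAut.conj g).toMonoidHom := by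
    rw [map_mul]; rfl
  rw [h3, ← Subgroup.map_map] at h2
  exact Subgroup.map_injective (MulAut.conj h⁻¹).injective (h2.trans h1.symm)

end CfsgLib.Spor.HeldFusion
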