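import Cfsg.Agent.Lib.Invol.ZStar
import Cfsg.Agent.Lib.Fusion.Transfer
import Mathlib.GroupTheory.GroupAction.Quotient

/-!
# Held type groups: fusion tools

Counting the conjugates of an involution under an elementary abelian subgroup, and control of fusion in a
weakly closed abelian subgroup.
-/

set_option autoImplicit false
set_option linter.unusedSectionVars false
set_option linter.style.haveILetI false

namespace CfsgLib.Spor.HeldFusion

open Subgroup MulAction

variable {G : Type*} [Group G] [Finite G]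

/-- the number of conjugates of `z` -/
noncomputable def nConj (z : G) : ℕ := Nat.card {x : G // IsConj z x}

/-- the number of conjugates of `z` commuting with `z` -/
noncomputable def nComm (z : G) : ℕ := Nat.card {x : G // IsConj z x ∧ Commute z x}

theorem nConj_mul (z : G) : nConj z * Nat.card (centralizer ({z} : Set G)) = Nat.card G := by
  classical
  have h := (stabilizer (ConjAct G) z).index_mul_card
  rw [MulAction.index_stabilizer, ← Nat.card_coe_set_eq] at h
  have h1 : Nat.card (orbit (ConjAct G) z) = nConj z := Nat.card_congr (Equiv.subtypeEquivRight fun x => by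
    rw [ConjAct.mem_orbit_conjAct, isConj_comm])
  have h2 : Nat.card (stabilizer (ConjAct G) z) = Nat.card (centralizer ({z} : Set G)) :=
    Nat.card_congr ((ConjAct.ofConjAct (G := G)).toEquiv.subtypeEquiv fun g => by
      rw [mem_stabilizer_iff, ConjAct.smul_def, mem_centralizer_singleton_iff, mul_inv_eq_iff_eq_mul]
      rfl)
  have h3 : Nat.card (ConjAct G) = Nat.card G := Nat.card_congr ConjAct.ofConjAct.toEquiv
  rw [h1, h2, h3] at h
  exact h

theorem nComm_conj {z e : G} (h : IsConj z e) :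
    Nat.card {x : G // IsConj z x ∧ Commute e x} = nComm z := by
  obtain ⟨g, rfl⟩ := isConj_iff.1 h
  refine (Nat.card_congr (Equiv.subtypeEquiv (MulAut.conj g).toEquiv fun x => ?_)).symm
  show _ ↔ IsConj z (g * x * g⁻¹) ∧ Commute (g * z * g⁻¹) (g * x * g⁻¹)
  have hx : IsConj x (g * x * g⁻¹) := isConj_iff.2 ⟨g, rfl⟩
  refine and_congr ⟨fun h => h.trans hx, fun h => h.trans hx.symm⟩ ⟨fun h => ?_, fun h => ?_⟩
  · exact h.map (MulAut.conj g).toMonoidHom
  · have := h.map (MulAut.conj g⁻¹).toMonoidHom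
    simpa [mul_assoc] using this

/-- **the congruence**: an elementary subgroup inside the class of `z` counts the class -/
theorem card_dvd_fixed (z : G) (E : Subgroup G) (hE : ∀ e ∈ E, e ≠ 1 → IsConj z e) :
    Nat.card E ∣ nConj z + (Nat.card E - 1) * nComm z := by
  classical
  haveI := Fintype.ofFinite G
  let α := {x : G // IsConj z x}
  letI : MulAction E α :=
    { smul := fun e x => ⟨(e : G) * x.1 * (e : G)⁻¹, x.2.trans (isConj_iff.2 ⟨e, rfl⟩)⟩
      one_smul := fun x => Subtype.ext (by show ((1 : E) : G) * x.1 * ((1 : E) : G)⁻¹ = x.1; simp)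
      mul_smul := fun a b x => Subtype.ext (by
        show ((a * b : E) : G) * x.1 * ((a * b : E) : G)⁻¹ = (a : G) * ((b : G) * x.1 * (b : G)⁻¹) * (a : G)⁻¹
        push_cast
        group) }
  haveI : Fintype (orbitRel.Quotient E α) := Fintype.ofFinite _
  have hB := MulAction.sum_card_fixedBy_eq_card_orbits_mul_card_group E α
  have hfix : ∀ e : E, Fintype.card (fixedBy α e) = if e = 1 then nConj z else nComm z := by
    intro e
    rw [← Nat.card_eq_fintype_card]
    split_ifs with he
    · subst he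
      exact Nat.card_congr (Equiv.subtypeUnivEquiv fun x => one_smul E x)
    · rw [← nComm_conj (hE e e.2 fun h => he (Subtype.ext h))]
      refine (Nat.card_congr (Equiv.subtypeEquivRight fun x => ?_)).trans
        (Nat.card_congr (Equiv.subtypeSubtypeEquivSubtypeInter (IsConj z) fun x => Commute (e : G) x))
      show e • x = x ↔ Commute (e : G) x.1
      refine ⟨fun h => mul_inv_eq_iff_eq_mul.1 (congrArg Subtype.val h), fun h => Subtype.ext ?_⟩
      exact mul_inv_eq_iff_eq_mul.2 h
  rw [Finset.sum_congr rfl fun e _ => hfix e, Finset.sum_ite, Finset.filter_eq' Finset.univ (1 : E),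
    if_pos (Finset.mem_univ _), Finset.sum_singleton, Finset.sum_const, Finset.filter_ne' Finset.univ (1 : E),
    Finset.card_erase_of_mem (Finset.mem_univ _), Finset.card_univ, smul_eq_mul] at hB
  rw [Nat.card_eq_fintype_card, hB]
  exact dvd_mul_left _ _

/-- an involution commuting with none of its other conjugates -/
theorem false_of_isolated [IsSimpleGroup G] (hG : ¬ IsMulCommutative G) {z : G} (hz : orderOf z = 2)
    (h : ∀ x : G, IsConj z x → Commute z x → x = z) : False := by
  haveI : Fact (Nat.Prime 2) := ⟨Nat.prime_two⟩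
  have hc : CfsgLib.Invol.IsZCentral z :=
    CfsgLib.Invol.zstar ⟨hz, fun g hg => h _ (isConj_iff.2 ⟨g, rfl⟩) hg⟩
  haveI : (Cfsg.pPrimeCore 2 G).Characteristic := CfsgLib.Coprime.pPrimeCore_characteristic 2
  have hO : Cfsg.pPrimeCore 2 G = ⊥ := by
    refine (IsSimpleGroup.eq_bot_or_eq_top_of_normal _ inferInstance).resolve_right fun ht => ?_
    have h2 : ¬ 2 ∣ Nat.card (Cfsg.pPrimeCore 2 G) := CfsgLib.Coprime.pPrimeCore_not_dvd Nat.prime_two
    rw [ht, Subgroup.card_top] at h2
    exact h2 (hz ▸ orderOf_dvd_natCard z)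
  have hz1 : z ∈ center G := mem_center_iff.2 fun g => by
    have := hc g
    rw [hO, mem_bot] at this
    calc g * z = z * g * z⁻¹ * g⁻¹ * (g * z) := by rw [this, one_mul]
      _ = z * g := by group
  rcases IsSimpleGroup.eq_bot_or_eq_top_of_normal (center G) inferInstance with hb | ht
  · rw [hb, mem_bot] at hz1
    rw [hz1, orderOf_one] at hz
    omega
  · exact hG ⟨⟨fun a b => (mem_center_iff.1 (ht ▸ mem_top a : a ∈ center G) b).symm⟩⟩

/-- **Burnside**: a weakly closed abelian 2-subgroup controls its own fusion -/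
theorem exists_normalizer_conj (A : Subgroup G) (hA : IsPGroup 2 A) (hab : ∀ a ∈ A, ∀ b ∈ A, a * b = b * a)
    (hwc : ∀ g : G, IsPGroup 2 (A ⊔ A.map (MulAut.conj g).toMonoidHom : Subgroup G) →
      A.map (MulAut.conj g).toMonoidHom = A)
    {x y : G} (hx : x ∈ A) (hy : y ∈ A) (h : IsConj x y) :
    ∃ n ∈ normalizer (A : Set G), n * x * n⁻¹ = y := by
  haveI : Fact (Nat.Prime 2) := ⟨Nat.prime_two⟩
  obtain ⟨g, rfl⟩ := isConj_iff.1 h
  set C := centralizer ({g * x * g⁻¹} : Set G) with hC
  set A' := A.map (MulAut.conj g).toMonoidHom with hA'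
  have hAC : A ≤ C := fun a ha => mem_centralizer_singleton_iff.2 (hab a ha _ hy)
  have hA'C : A' ≤ C := by
    rintro _ ⟨a, ha, rfl⟩
    refine mem_centralizer_singleton_iff.2 ?_
    show g * a * g⁻¹ * (g * x * g⁻¹) = g * x * g⁻¹ * (g * a * g⁻¹)
    calc g * a * g⁻¹ * (g * x * g⁻¹) = g * (a * x) * g⁻¹ := by group
      _ = g * (x * a) * g⁻¹ := by rw [hab a ha x hx]
      _ = _ := by group
  obtain ⟨P, hP⟩ := (hA.comap_of_injective C.subtype C.subtype_injective).exists_le_sylow
  obtain ⟨Q, hQ⟩ := ((hA.map (MulAut.conj g).toMonoidHom).comap_of_injective C.subtype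
    C.subtype_injective).exists_le_sylow
  obtain ⟨c, hc⟩ := MulAction.exists_smul_eq C Q P
  refine ⟨c * g, ?_, ?_⟩
  · have hle : A ⊔ A.map (MulAut.conj ((c : G) * g)).toMonoidHom ≤ (P : Subgroup C).map C.subtype := by
      refine sup_le (fun a ha => ⟨⟨a, hAC ha⟩, hP ha, rfl⟩) ?_
      rintro _ ⟨a, ha, rfl⟩
      refine ⟨c * ⟨g * a * g⁻¹, hA'C ⟨a, ha, rfl⟩⟩ * c⁻¹, ?_, ?_⟩
      · rw [← hc, Sylow.coe_subgroup_smul]
        exact Subgroup.smul_mem_pointwise_smul _ (MulAut.conj c) _ (hQ ⟨a, ha, rfl⟩)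
      · show (c : G) * (g * a * g⁻¹) * (c : G)⁻¹ = (c : G) * g * a * ((c : G) * g)⁻¹
        group
    have heq := hwc ((c : G) * g) ((P.2.map _).to_le hle)
    refine Subgroup.mem_set_normalizer_iff.2 fun a => ⟨fun ha => ?_, fun ha => ?_⟩
    · exact heq ▸ ⟨a, ha, rfl⟩
    · obtain ⟨b, hb, he⟩ := (heq.symm ▸ ha :
        (c : G) * g * a * ((c : G) * g)⁻¹ ∈ A.map (MulAut.conj ((c : G) * g)).toMonoidHom)
      exact (MulAut.conj ((c : G) * g)).injective he ▸ hb
  · have h2 := mem_centralizer_singleton_iff.1 c.2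
    calc (c : G) * g * x * ((c : G) * g)⁻¹ = (c : G) * (g * x * g⁻¹) * (c : G)⁻¹ := by group
      _ = g * x * g⁻¹ := by rw [h2, mul_inv_cancel_right]

/-- the conjugates of `z` in a weakly closed abelian subgroup form one orbit of the normaliser -/
theorem orbit_count (A : Subgroup G) (hA : IsPGroup 2 A) (hab : ∀ a ∈ A, ∀ b ∈ A, a * b = b * a)
    (hwc : ∀ g : G, IsPGroup 2 (A ⊔ A.map (MulAut.conj g).toMonoidHom : Subgroup G) →
      A.map (MulAut.conj g).toMonoidHom = A)
    {z : G} (hz : z ∈ A) :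
    Nat.card {a : G // a ∈ A ∧ IsConj z a} * Nat.card (normalizer (A : Set G) ⊓ centralizer {z} : Subgroup G) =
      Nat.card (normalizer (A : Set G)) := by
  classical
  set N := normalizer (A : Set G) with hN
  let α := {a : G // a ∈ A ∧ IsConj z a}
  letI : MulAction N α :=
    { smul := fun n a => ⟨(n : G) * a.1 * (n : G)⁻¹, (Subgroup.mem_set_normalizer_iff.1 n.2 a.1).1 a.2.1,
        a.2.2.trans (isConj_iff.2 ⟨n, rfl⟩)⟩
      one_smul := fun x => Subtype.ext (by show ((1 : N) : G) * x.1 * ((1 : N) : G)⁻¹ = x.1; simp)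
      mul_smul := fun a b x => Subtype.ext (by
        show ((a * b : N) : G) * x.1 * ((a * b : N) : G)⁻¹ = (a : G) * ((b : G) * x.1 * (b : G)⁻¹) * (a : G)⁻¹
        push_cast
        group) }
  let a₀ : α := ⟨z, hz, IsConj.refl z⟩
  have horb : orbit N a₀ = Set.univ := Set.eq_univ_of_forall fun a => by
    obtain ⟨n, hn, he⟩ := exists_normalizer_conj A hA hab hwc hz a.2.1 a.2.2
    exact ⟨⟨n, hn⟩, Subtype.ext he⟩
  have h := (stabilizer N a₀).index_mul_card
  rw [MulAction.index_stabilizer, horb, Set.ncard_univ] at h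
  have hs : Nat.card (stabilizer N a₀) = Nat.card (N ⊓ centralizer {z} : Subgroup G) := by
    refine Nat.card_congr
      { toFun := fun n => ⟨n.1.1, n.1.2, mem_centralizer_singleton_iff.2
          (mul_inv_eq_iff_eq_mul.1 (congrArg Subtype.val (mem_stabilizer_iff.1 n.2)))⟩
        invFun := fun n => ⟨⟨n.1, n.2.1⟩, mem_stabilizer_iff.2 (Subtype.ext
          (mul_inv_eq_iff_eq_mul.2 (mem_centralizer_singleton_iff.1 n.2.2)))⟩
        left_inv := fun n => rfl
        right_inv := fun n => rfl }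
  rwa [hs] at h

/-- conjugation invariant counts are constant along the orbit -/
theorem degree_const (A : Subgroup G) (hA : IsPGroup 2 A) (hab : ∀ a ∈ A, ∀ b ∈ A, a * b = b * a)
    (hwc : ∀ g : G, IsPGroup 2 (A ⊔ A.map (MulAut.conj g).toMonoidHom : Subgroup G) →
      A.map (MulAut.conj g).toMonoidHom = A)
    {z u v : G} (hu : u ∈ A) (hzu : IsConj z u) (hv : v ∈ A) (hzv : IsConj z v) :
    Nat.card {w : G // w ∈ A ∧ IsConj z w ∧ IsConj z (w * u)} =
      Nat.card {w : G // w ∈ A ∧ IsConj z w ∧ IsConj z (w * v)} := by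
  obtain ⟨n, hn, rfl⟩ := exists_normalizer_conj A hA hab hwc hu hv (hzu.symm.trans hzv)
  refine Nat.card_congr (Equiv.subtypeEquiv (MulAut.conj n).toEquiv fun w => ?_)
  show _ ↔ n * w * n⁻¹ ∈ A ∧ IsConj z (n * w * n⁻¹) ∧ IsConj z (n * w * n⁻¹ * (n * u * n⁻¹))
  rw [show n * w * n⁻¹ * (n * u * n⁻¹) = n * (w * u) * n⁻¹ by group]
  have key : ∀ t : G, IsConj z t ↔ IsConj z (n * t * n⁻¹) := fun t =>
    ⟨fun h => h.trans (isConj_iff.2 ⟨n, rfl⟩), fun h => h.trans (isConj_iff.2 ⟨n, rfl⟩).symm⟩
  exact and_congr (Subgroup.mem_set_normalizer_iff.1 hn w) (and_congr (key w) (key (w * u)))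

end CfsgLib.Spor.HeldFusion
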