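import Cfsg.Agent.Lib.Spor.HeldFusion.Fusion
import Cfsg.Agent.Lib.Spor.HeldFusion.Patterns

/-!
# Held type groups: what a weakly closed elementary subgroup of order 64 says about the pattern
-/

set_option autoImplicit false
set_option linter.unusedSectionVars false
set_option linter.style.haveILetI false

namespace CfsgLib.Spor.HeldFusion

open Subgroup

variable {G : Type*} [Group G] [Finite G]

/-- a weakly closed elementary subgroup of order 64 containing `z`, coordinatised by six bits, on which the
class of `z` is given by the pattern `m` -/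
structure Side (z : G) (L : List ℕ) (m : ℕ) where
  A : Subgroup G
  pgroup : IsPGroup 2 A
  comm : ∀ a ∈ A, ∀ b ∈ A, a * b = b * a
  closed : ∀ g : G, IsPGroup 2 (A ⊔ A.map (MulAut.conj g).toMonoidHom : Subgroup G) →
    A.map (MulAut.conj g).toMonoidHom = A
  zmem : z ∈ A
  f : ℕ → G
  f_mem : ∀ v < 64, f v ∈ A
  f_surj : ∀ a ∈ A, ∃ v < 64, f v = a
  f_inj : ∀ v < 64, ∀ w < 64, f v = f w → v = w
  f_xor : ∀ v < 64, ∀ w < 64, f v * f w = f (v ^^^ w)
  f_class : ∀ v < 64, (IsConj z (f v) ↔ inZ m (L.getD v 9) = true)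

namespace Side

variable {z : G} {L : List ℕ} {m : ℕ} (D : Side z L m)

/-- transport of counting to the codes -/
theorem card_filter (P : G → Prop) (Q : ℕ → Bool) (h : ∀ v < 64, (P (D.f v) ↔ Q v = true)) :
    Nat.card {a : G // a ∈ D.A ∧ P a} = ((List.range 64).filter Q).length := by
  classical
  let α := {v : ℕ // v ∈ (List.range 64).filter Q}
  have hlt : ∀ v : α, v.1 < 64 := fun v => List.mem_range.1 (List.mem_filter.1 v.2).1
  let φ : α → {a : G // a ∈ D.A ∧ P a} := fun v => ⟨D.f v.1, D.f_mem _ (hlt v),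
    (h _ (hlt v)).2 (List.mem_filter.1 v.2).2⟩
  have hφ : Function.Bijective φ := by
    refine ⟨fun v w e => Subtype.ext (D.f_inj _ (hlt v) _ (hlt w) (congrArg Subtype.val e)), fun a => ?_⟩
    obtain ⟨v, hv, he⟩ := D.f_surj a.1 a.2.1
    exact ⟨⟨v, List.mem_filter.2 ⟨List.mem_range.2 hv, (h v hv).1 (by rw [he]; exact a.2.2)⟩⟩, Subtype.ext he⟩
  rw [← Nat.card_congr (Equiv.ofBijective φ hφ), Nat.card_eq_fintype_card]
  exact (Fintype.card_of_subtype ((List.range 64).filter Q).toFinset fun x => List.mem_toFinset).trans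
    (List.toFinset_card_of_nodup (List.nodup_range.filter Q))

theorem card_omega : Nat.card {a : G // a ∈ D.A ∧ IsConj z a} = (omegaL L m).length :=
  D.card_filter _ _ D.f_class

theorem card_deg {v : ℕ} (hv : v < 64) :
    Nat.card {w : G // w ∈ D.A ∧ IsConj z w ∧ IsConj z (w * D.f v)} = degL L m v := by
  rw [D.card_filter (fun w => IsConj z w ∧ IsConj z (w * D.f v))
    (fun w => inZ m (L.getD w 9) && inZ m (L.getD (w ^^^ v) 9)) fun w hw => ?_, degL, omegaL, List.filter_filter]
  · congr 1
    exact List.filter_congr fun w _ => Bool.and_comm _ _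
  · rw [D.f_class w hw, D.f_xor w hw v hv, D.f_class _ (Nat.xor_lt_two_pow (n := 6) hw hv), Bool.and_eq_true]

theorem card_normalizer (hN : Nat.card (normalizer (D.A : Set G) ⊓ centralizer {z} : Subgroup G) = 3072) :
    Nat.card (normalizer (D.A : Set G)) = (omegaL L m).length * 3072 := by
  rw [← orbit_count D.A D.pgroup D.comm D.closed D.zmem, D.card_omega, hN]

theorem localOK (hG : Nat.card G = 4030387200)
    (hN : Nat.card (normalizer (D.A : Set G) ⊓ centralizer {z} : Subgroup G) = 3072) :
    HeldFusion.localOK L m = true := by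
  simp only [HeldFusion.localOK, Bool.and_eq_true, decide_eq_true_eq, List.all_eq_true, List.mem_map,
    forall_exists_index, and_imp, forall_apply_eq_imp_iff₂, beq_iff_eq]
  constructor
  · refine Nat.dvd_of_mul_dvd_mul_right (k := 3072) (by norm_num) ?_
    rw [← D.card_normalizer hN, show 1311975 * 3072 = 4030387200 by norm_num, ← hG]
    exact Subgroup.card_subgroup_dvd_card _
  · intro v hv
    have hmem : ∀ u ∈ omegaL L m, u < 64 ∧ IsConj z (D.f u) := fun u hu =>
      ⟨List.mem_range.1 (List.mem_filter.1 hu).1,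
        (D.f_class u (List.mem_range.1 (List.mem_filter.1 hu).1)).2 (List.mem_filter.1 hu).2⟩
    have hne : omegaL L m ≠ [] := List.ne_nil_of_mem hv
    have h0 : (omegaL L m).headD 0 ∈ omegaL L m := by
      cases hl : omegaL L m with
      | nil => exact absurd hl hne
      | cons a l => simp
    obtain ⟨hv1, hv2⟩ := hmem v hv
    obtain ⟨hu1, hu2⟩ := hmem _ h0
    rw [← D.card_deg hv1, ← D.card_deg hu1]
    exact degree_const D.A D.pgroup D.comm D.closed (D.f_mem _ hv1) hv2 (D.f_mem _ hu1) hu2

end Side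

/-- **the pattern is one of three** -/
theorem pattern_three {z : G} {m : ℕ} (hm : m < 128) (DA : Side z labA m) (DB : Side z labB m)
    (hG : Nat.card G = 4030387200) (hC : Nat.card (centralizer ({z} : Set G)) = 21504)
    (hA : Nat.card (normalizer (DA.A : Set G) ⊓ centralizer {z} : Subgroup G) = 3072)
    (hB : Nat.card (normalizer (DB.A : Set G) ⊓ centralizer {z} : Subgroup G) = 3072)
    (hF : nComm z = nFix m)
    (hE : m.testBit 0 = true ∨ m.testBit 1 = true → ∃ E : Subgroup G, Nat.card E = 16 ∧
      ∀ e ∈ E, e ≠ 1 → IsConj z e) :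
    m = 0 ∨ m = 11 ∨ m = 107 := by
  refine pattern_cases' hm ?_
  rw [patternOK, DA.localOK hG hA, DB.localOK hG hB]
  simp only [Bool.and_self, Bool.true_and, Bool.or_eq_true, Bool.not_eq_eq_eq_not, Bool.not_true, beq_iff_eq]
  by_cases h : m.testBit 0 = true ∨ m.testBit 1 = true
  · right
    obtain ⟨E, hE1, hE2⟩ := hE h
    have h1 := card_dvd_fixed z E hE2
    have h2 := nConj_mul z
    rw [hE1, hF] at h1
    rw [hC, hG] at h2
    omega
  · left
    simpa [Bool.or_eq_false_iff] using h

/-- the empty pattern makes `z` isolated -/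
theorem false_of_isolated_pattern [IsSimpleGroup G] (hG : ¬ IsMulCommutative G) {z : G} (hz : orderOf z = 2)
    (hF : nComm z = nFix 0) : False := by
  refine false_of_isolated hG hz fun x hx hc => ?_
  have h1 : Nat.card {x : G // IsConj z x ∧ Commute z x} = 1 := by
    rw [show Nat.card {x : G // IsConj z x ∧ Commute z x} = nComm z from rfl, hF]
    rfl
  obtain ⟨hs, -⟩ := Nat.card_eq_one_iff_unique.1 h1
  exact congrArg Subtype.val (hs.allEq ⟨x, hx, hc⟩ ⟨z, IsConj.refl z, Commute.refl z⟩)

end CfsgLib.Spor.HeldFusion
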