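import Cfsg.Agent.Lib.Spor.HeldFusion.Cent
import Cfsg.Agent.Lib.Spor.HeldFusion.Side
import Cfsg.Agent.Lib.Spor.HeldFusion.Closed

/-!
# Held type groups: fusion of the involutions of the centraliser

With `C(t) ≅ Cen splitTab` in a simple group of order 4030387200 the class of `t` meets the centraliser in one of
two patterns; in both the two elementary subgroups of order 64 are weakly closed and their normalisers are
transitive on the conjugates of `t` they contain.
-/

set_option autoImplicit false
set_option linter.unusedSectionVars false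
set_option linter.style.haveILetI false

namespace CfsgLib.Spor.HeldFusion

open CfsgLib.Spor.HeldRecog Subgroup

theorem testBit_patOf_bool : ∀ b0 b1 b2 b3 b4 b5 b6 : Bool, ∀ c : Fin 7,
    Nat.testBit ((if b0 then 1 else 0) + (if b1 then 2 else 0) + (if b2 then 4 else 0) + (if b3 then 8 else 0) +
      (if b4 then 16 else 0) + (if b5 then 32 else 0) + (if b6 then 64 else 0)) c.val =
      [b0, b1, b2, b3, b4, b5, b6].getD c.val false := by
  decide

/-- the bit pattern of a predicate on the seven classes -/
def patOf (f : ℕ → Bool) : ℕ :=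
  (if f 0 then 1 else 0) + (if f 1 then 2 else 0) + (if f 2 then 4 else 0) + (if f 3 then 8 else 0) +
    (if f 4 then 16 else 0) + (if f 5 then 32 else 0) + (if f 6 then 64 else 0)

theorem testBit_patOf (f : ℕ → Bool) {c : ℕ} (hc : c < 7) : (patOf f).testBit c = f c := by
  rw [patOf, testBit_patOf_bool (f 0) (f 1) (f 2) (f 3) (f 4) (f 5) (f 6) ⟨c, hc⟩]
  interval_cases c <;> rfl

theorem patOf_lt (f : ℕ → Bool) : patOf f < 128 := by
  unfold patOf
  split_ifs <;> omega

variable {G : Type*} [Group G] [Finite G] {t : G}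

/-- the centraliser in the group -/
noncomputable def incl (e : Cen splitTab ≃* centralizer ({t} : Set G)) : Cen splitTab →* G :=
  (centralizer ({t} : Set G)).subtype.comp e.toMonoidHom

theorem incl_injective (e : Cen splitTab ≃* centralizer ({t} : Set G)) : Function.Injective (incl e) :=
  (centralizer ({t} : Set G)).subtype_injective.comp e.injective

theorem incl_mem (e : Cen splitTab ≃* centralizer ({t} : Set G)) (x : Cen splitTab) :
    incl e x ∈ centralizer ({t} : Set G) := (e x).2

theorem exists_incl (e : Cen splitTab ≃* centralizer ({t} : Set G)) {g : G} (hg : g ∈ centralizer ({t} : Set G)) :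
    ∃ x, incl e x = g := ⟨e.symm ⟨g, hg⟩, congrArg Subtype.val (e.apply_symm_apply _)⟩

theorem incl_z (e : Cen splitTab ≃* centralizer ({t} : Set G)) (he : ((e ⟨64, by norm_num⟩ : _) : G) = t) :
    incl e (el zCode) = t := by
  rw [show el zCode = (⟨64, by norm_num⟩ : Cen splitTab) from Cen.ext (el_val (by norm_num [zCode]))]
  exact he

open Classical in
/-- the pattern of the class of `t` in the centraliser -/
noncomputable def patt (e : Cen splitTab ≃* centralizer ({t} : Set G)) : ℕ :=
  patOf fun c => decide (IsConj t (incl e (el ((classL c).getD 0 0))))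

theorem patt_iff (e : Cen splitTab ≃* centralizer ({t} : Set G)) {c n : ℕ} (hc : c < 7) (hn : n ∈ classL c) :
    IsConj t (incl e (el n)) ↔ (patt e).testBit c = true := by
  classical
  rw [patt, testBit_patOf _ hc, decide_eq_true_eq]
  have h : IsConj (incl e (el ((classL c).getD 0 0))) (incl e (el n)) := (incl e).map_isConj (class_isConj hc hn)
  exact ⟨fun h' => h'.trans h.symm, fun h' => h'.trans h⟩

variable (e : Cen splitTab ≃* centralizer ({t} : Set G)) (he : ((e ⟨64, by norm_num⟩ : _) : G) = t)
  (ht : orderOf t = 2)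

include he ht in
/-- **the class of `t` inside the centraliser** -/
theorem isConj_iff_pattern (x : Cen splitTab) :
    IsConj t (incl e x) ↔ x = el zCode ∨ ∃ c < 7, (patt e).testBit c = true ∧ x.val ∈ classL c := by
  constructor
  · intro h
    have h2 : x * x = 1 := by
      apply incl_injective e
      obtain ⟨g, hg⟩ := isConj_iff.1 h
      rw [map_mul, map_one, ← hg, show g * t * g⁻¹ * (g * t * g⁻¹) = g * (t * t) * g⁻¹ by group,
        ← pow_two, ← ht, pow_orderOf_eq_one, mul_one, mul_inv_cancel]
    rcases invol_cases x h2 with rfl | rfl | ⟨c, hc, hx⟩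
    · rw [map_one] at h
      obtain ⟨g, hg⟩ := isConj_iff.1 h
      rw [conj_eq_one_iff] at hg
      rw [hg, orderOf_one] at ht
      omega
    · exact Or.inl rfl
    · refine Or.inr ⟨c, hc, ?_, hx⟩
      rw [← el_of_val x] at h
      exact (patt_iff e hc hx).1 h
  · rintro (rfl | ⟨c, hc, hb, hx⟩)
    · rw [incl_z e he]
    · rw [← el_of_val x]
      exact (patt_iff e hc hx).2 hb

include he ht in
/-- the number of conjugates of `t` in the centraliser -/
theorem nComm_eq : nComm t = nFix (patt e) := by
  classical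
  set L := zCode :: ((List.range 7).filter fun c => (patt e).testBit c).flatMap classL with hL
  have hmem : ∀ x : Cen splitTab, IsConj t (incl e x) ↔ x.val ∈ L := fun x => by
    rw [isConj_iff_pattern e he ht, hL, List.mem_cons, List.mem_flatMap]
    refine or_congr ⟨fun h => by rw [h, el_val (by norm_num [zCode])], fun h => by rw [← el_of_val x, h]⟩ ?_
    simp only [List.mem_filter, List.mem_range]
    exact ⟨fun ⟨c, hc, hb, hx⟩ => ⟨c, ⟨hc, hb⟩, hx⟩, fun ⟨c, ⟨hc, hb⟩, hx⟩ => ⟨c, hc, hb, hx⟩⟩
  have hlt : ∀ n ∈ L, n < 21504 := by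
    intro n hn
    rw [hL, List.mem_cons, List.mem_flatMap] at hn
    rcases hn with rfl | ⟨c, hc, hn⟩
    · norm_num [zCode]
    · exact (classL_lt (List.mem_range.1 (List.mem_filter.1 hc).1) hn).1
  let φ : {n : ℕ // n ∈ L} → {x : G // IsConj t x ∧ Commute t x} := fun n =>
    ⟨incl e (el n.1), (hmem _).2 (by rw [el_val (hlt _ n.2)]; exact n.2),
      (mem_centralizer_singleton_iff.1 (incl_mem e _)).symm⟩
  have hφ : Function.Bijective φ := by
    refine ⟨fun a b h => Subtype.ext (el_inj (hlt _ a.2) (hlt _ b.2) (incl_injective e (congrArg Subtype.val h :))),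
      fun x => ?_⟩
    obtain ⟨y, hy⟩ := exists_incl e (mem_centralizer_singleton_iff.2 x.2.2.eq.symm)
    exact ⟨⟨y.val, (hmem y).1 (by rw [hy]; exact x.2.1)⟩, Subtype.ext ((congrArg (incl e) (el_of_val y)).trans hy)⟩
  have hnd : L.Nodup := by
    have h := classes_nodup
    rw [List.nodup_append] at h
    rw [hL, List.nodup_cons]
    have hsub : (((List.range 7).filter fun c => (patt e).testBit c).flatMap classL).Sublist allClasses :=
      List.Sublist.flatMap List.filter_sublist classL
    exact ⟨fun hz => h.2.2 zCode (hsub.subset hz) zCode (by simp) rfl, h.1.sublist hsub⟩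
  rw [nComm, ← Nat.card_congr (Equiv.ofBijective φ hφ), Nat.card_eq_fintype_card]
  refine (Fintype.card_of_subtype L.toFinset fun x => List.mem_toFinset).trans ?_
  rw [List.toFinset_card_of_nodup hnd, hL, List.length_cons, List.length_flatMap]
  have hlen : ∀ c, c < 7 → (classL c).length = sizeC.getD c 0 := by decide +kernel
  have key : ∀ (l : List ℕ) (b : ℕ → Bool), (∀ c ∈ l, c < 7) →
      ((l.filter b).map fun c => (classL c).length).sum = (l.map fun c => if b c then sizeC.getD c 0 else 0).sum := by
    intro l b hl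
    induction l with
    | nil => rfl
    | cons a l ih =>
      have h := ih fun c hc => hl c (List.mem_cons_of_mem _ hc)
      rw [List.map_cons, List.sum_cons]
      by_cases hb : b a = true
      · rw [List.filter_cons_of_pos hb, List.map_cons, List.sum_cons, h, if_pos hb, hlen a (hl a List.mem_cons_self)]
      · rw [List.filter_cons_of_neg hb, h, if_neg hb, zero_add]
  rw [key _ _ (fun c hc => List.mem_range.1 hc), nFix]
  omega

/-- `A` in the group -/
noncomputable def sideA : Subgroup G := subA.map (incl e)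

/-- `B` in the group -/
noncomputable def sideB : Subgroup G := subB.map (incl e)

theorem card_list_subgroup (H : Subgroup (Cen splitTab)) (L : List ℕ) (hH : ∀ x, x ∈ H ↔ x.val ∈ L) (hL : L.Nodup)
    (hlt : ∀ n ∈ L, n < 21504) : Nat.card H = L.length := by
  classical
  let φ : {n : ℕ // n ∈ L} → H := fun n => ⟨el n.1, (hH _).2 (by rw [el_val (hlt _ n.2)]; exact n.2)⟩
  have hφ : Function.Bijective φ :=
    ⟨fun a b h => Subtype.ext (el_inj (hlt _ a.2) (hlt _ b.2) (congrArg Subtype.val h)),
      fun x => ⟨⟨x.1.val, (hH x.1).1 x.2⟩, Subtype.ext (el_of_val x.1)⟩⟩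
  rw [← Nat.card_congr (Equiv.ofBijective φ hφ), Nat.card_eq_fintype_card]
  exact (Fintype.card_of_subtype L.toFinset fun x => List.mem_toFinset).trans (List.toFinset_card_of_nodup hL)

theorem card_subA : Nat.card subA = 64 :=
  (card_list_subgroup subA aList (fun _ => mem_subA) side_codes.2.2.2.2.1 fun _ h => inS_lt (aList_lt h)).trans
    side_codes.2.2.1

theorem card_subB : Nat.card subB = 64 :=
  (card_list_subgroup subB bList (fun _ => mem_subB) side_codes.2.2.2.2.2 fun _ h => inS_lt (bList_lt h)).trans
    side_codes.2.2.2.1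

theorem code_facts {v : ℕ} (hv : v < 64) : aCode v ∈ aList ∧ bCode v ∈ bList ∧ aCode v < 21504 ∧ bCode v < 21504 := by
  have ha : aCode v ∈ aList := by
    rw [aCode, getD_get _ _ (by rw [side_codes.2.2.1]; exact hv)]
    exact List.getElem_mem _
  have hb : bCode v ∈ bList := by
    rw [bCode, getD_get _ _ (by rw [side_codes.2.2.2.1]; exact hv)]
    exact List.getElem_mem _
  exact ⟨ha, hb, inS_lt (aList_lt ha), inS_lt (bList_lt hb)⟩

theorem code_mul {v w : ℕ} (hv : v < 64) (hw : w < 64) :
    el (aCode v) * el (aCode w) = el (aCode (v ^^^ w)) ∧ el (bCode v) * el (bCode w) = el (bCode (v ^^^ w)) := by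
  have h := side_xor
  simp only [List.all_eq_true, List.mem_range, Bool.and_eq_true, beq_iff_eq] at h
  obtain ⟨h1, h2⟩ := h v hv w hw
  exact ⟨by rw [← el_mul (code_facts hv).2.2.1 (code_facts hw).2.2.1, h1],
    by rw [← el_mul (code_facts hv).2.2.2 (code_facts hw).2.2.2, h2]⟩

theorem code_surj {n : ℕ} : (n ∈ aList → ∃ v < 64, aCode v = n) ∧ (n ∈ bList → ∃ v < 64, bCode v = n) := by
  constructor <;> intro h <;> obtain ⟨i, hi, rfl⟩ := List.mem_iff_getElem.1 h
  · exact ⟨i, side_codes.2.2.1 ▸ hi, getD_get _ _ hi⟩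
  · exact ⟨i, side_codes.2.2.2.1 ▸ hi, getD_get _ _ hi⟩

/-- the Sylow 2-subgroup of the group -/
noncomputable def sylG (hG : Nat.card G = 4030387200) : Sylow 2 G :=
  (IsPGroup.of_card (n := 10) (G := sylC.map (incl e))
    (by rw [Subgroup.card_map_of_injective (incl_injective e), card_sylC]; norm_num)).toSylow (by
    have h := (sylC.map (incl e)).card_mul_index
    rw [Subgroup.card_map_of_injective (incl_injective e), card_sylC, hG] at h
    have : (sylC.map (incl e)).index = 3935925 := by omega
    rw [this]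
    norm_num)

include he in
/-- weak closure of one of the two subgroups -/
theorem closed_of_list (hG : Nat.card G = 4030387200) (HA HB : Subgroup (Cen splitTab)) (LA LB : List ℕ)
    (hA : ∀ x, x ∈ HA ↔ x.val ∈ LA) (hB : ∀ x, x ∈ HB ↔ x.val ∈ LB) (cA : Nat.card HA = 64) (cB : Nat.card HB = 64)
    (hAS : HA ≤ sylC) (hBS : HB ≤ sylC) (hBN : sylC ≤ normalizer (HB : Set (Cen splitTab)))
    (hel : ∀ a ∈ HA, a * a = 1) (hab : ∀ a ∈ HA, ∀ b ∈ HA, a * b = b * a)
    (hfew : ∀ x ∈ sInvol, x ∈ LA ∨ x ∈ LB ∨ (sInvol.filter fun y => mulC x y == mulC y x).length < 64)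
    (hnc : ∀ c : Cen splitTab, HA.map (MulAut.conj c).toMonoidHom ≠ HB) (g : G)
    (hg : IsPGroup 2 (HA.map (incl e) ⊔ (HA.map (incl e)).map (MulAut.conj g).toMonoidHom : Subgroup G)) :
    (HA.map (incl e)).map (MulAut.conj g).toMonoidHom = HA.map (incl e) := by
  classical
  have hinj := incl_injective e
  have hsq : ∀ x : Cen splitTab, x * x = 1 → mulC x.val x.val = 0 := fun x hx => by
    have h := congrArg Cen.val hx
    rwa [split_mul_val, split_one_val] at h
  have hinS : ∀ x ∈ sylC, x * x = 1 → x.val ∈ sInvol := fun x hx h => by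
    rw [sInvol, List.mem_filter, beq_iff_eq]
    exact ⟨inS_mem_sList (mem_sylC.1 hx), hsq x h⟩
  have hS : ((sylG e hG : Sylow 2 G) : Subgroup G) = sylC.map (incl e) := rfl
  refine closed_of_two (sylG e hG) (z := t) (HA.map (incl e)) (HB.map (incl e)) (by rw [hS]; exact Subgroup.map_mono hAS)
    (by rw [hS]; exact Subgroup.map_mono hBS) (by rw [Subgroup.card_map_of_injective hinj, cA])
    (by rw [Subgroup.card_map_of_injective hinj, cB]) ?_ ?_ ?_ ?_ ?_ ?_ ?_ g hg
  · rintro _ ⟨a, ha, rfl⟩
    rw [← map_mul, hel a ha, map_one]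
  · rintro _ ⟨a, ha, rfl⟩ _ ⟨b, hb, rfl⟩
    rw [← map_mul, ← map_mul, hab a ha b hb]
  · rw [hS]
    rintro _ ⟨x, hx, rfl⟩ hxA hxB hx2
    have hx2' : x * x = 1 := hinj (by rw [map_mul, map_one]; exact hx2)
    have hlen := ((hfew x.val (hinS x hx hx2')).resolve_left fun h => hxA ⟨x, (hA x).2 h, rfl⟩).resolve_left
      fun h => hxB ⟨x, (hB x).2 h, rfl⟩
    refine lt_of_le_of_lt ?_ hlen
    let L := sInvol.filter fun y => mulC x.val y == mulC y x.val
    let ψ : {y : G // y ∈ sylC.map (incl e) ∧ y * y = 1 ∧ Commute (incl e x) y} → {n : ℕ // n ∈ L.toFinset} :=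
      fun y => ⟨(Subgroup.mem_map.1 y.2.1).choose.val, by
        obtain ⟨h1, h2⟩ := (Subgroup.mem_map.1 y.2.1).choose_spec
        generalize (Subgroup.mem_map.1 y.2.1).choose = w at h1 h2 ⊢
        rw [List.mem_toFinset, List.mem_filter, beq_iff_eq]
        refine ⟨hinS w h1 (hinj (by rw [map_mul, map_one, h2]; exact y.2.2.1)), ?_⟩
        have h3 : x * w = w * x := hinj (by rw [map_mul, map_mul, h2]; exact y.2.2.2)
        have h4 := congrArg Cen.val h3
        rwa [split_mul_val, split_mul_val] at h4⟩
    have hψ : Function.Injective ψ := fun a b h => by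
      have h1 := (Subgroup.mem_map.1 a.2.1).choose_spec.2
      have h2 := (Subgroup.mem_map.1 b.2.1).choose_spec.2
      exact Subtype.ext (h1.symm.trans ((congrArg (incl e) (Cen.ext (congrArg Subtype.val h :))).trans h2))
    refine (Nat.card_le_card_of_injective ψ hψ).trans ?_
    rw [Nat.card_eq_fintype_card, Fintype.card_coe]
    exact L.toFinset_card_le
  · rw [hS]
    rintro _ ⟨s, hs, rfl⟩
    refine Subgroup.mem_set_normalizer_iff.2 fun w => ⟨?_, ?_⟩
    · rintro ⟨b, hb, rfl⟩
      exact ⟨s * b * s⁻¹, (Subgroup.mem_set_normalizer_iff.1 (hBN hs) b).1 hb, by rw [map_mul, map_mul, map_inv]⟩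
    · rintro ⟨b, hb, hbw⟩
      refine ⟨s⁻¹ * b * s, ?_, ?_⟩
      · have := (Subgroup.mem_set_normalizer_iff.1 (inv_mem (hBN hs)) b).1 hb
        rwa [inv_inv] at this
      · rw [map_mul, map_mul, map_inv, hbw]
        group
  · refine ⟨?_, ?_, ?_, fun s hs => ?_⟩
    · rw [← incl_z e he, ← map_mul, ← el_mul (by norm_num [zCode]) (by norm_num [zCode]),
        show mulC zCode zCode = 0 by decide +kernel, el_zero, map_one]
    · rw [← incl_z e he, ← (incl e).map_one]
      exact fun h => absurd (congrArg Cen.val (hinj h)) (by rw [el_val (by norm_num [zCode]), split_one_val]; norm_num [zCode])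
    · have h : incl e (el zCode) ∈ sylC.map (incl e) :=
        Subgroup.mem_map_of_mem _ (by rw [mem_sylC, el_val (by norm_num [zCode])]; exact gens_ok.2.2)
      rw [incl_z e he] at h
      exact h
    · rw [hS] at hs
      obtain ⟨x, -, rfl⟩ := hs
      exact mem_centralizer_singleton_iff.1 (incl_mem e x)
  · rw [hS]
    rintro _ ⟨x, hx, rfl⟩ hx2 hx1 hc
    have hx2' : x * x = 1 := hinj (by rw [map_mul, map_one]; exact hx2)
    have h := centre_unique.1
    simp only [List.all_eq_true, Bool.or_eq_true, beq_iff_eq, List.any_eq_true, Bool.not_eq_eq_eq_not,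
      Bool.not_true, beq_eq_false_iff_ne] at h
    rcases h x.val (hinS x hx hx2') with (h0 | h0) | ⟨r, hr, hne⟩
    · exact absurd (by rw [← el_of_val x, h0, el_zero, map_one]) hx1
    · rw [← el_of_val x, h0, incl_z e he]
    · refine absurd ?_ hne
      have h1 : el r * x = x * el r := hinj (by
        rw [map_mul, map_mul]
        exact hc _ (Subgroup.mem_map_of_mem _ (roots_mem_sylC hr).2.1))
      have h2 := congrArg Cen.val h1
      rw [split_mul_val, split_mul_val, el_val (roots_mem_sylC hr).1] at h2
      exact h2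
  · intro c hc h
    obtain ⟨x, rfl⟩ := exists_incl e hc
    refine hnc x (Subgroup.map_injective hinj ?_)
    rw [← h, Subgroup.map_map, Subgroup.map_map]
    congr 1
    exact MonoidHom.ext fun y => by simp

theorem hnc_AB (c : Cen splitTab) : subA.map (MulAut.conj c).toMonoidHom ≠ subB := by
  intro h
  obtain ⟨h1, h2⟩ := distinguish
  simp only [List.all_eq_true, Bool.not_eq_eq_eq_not, Bool.not_true, List.contains_eq_mem,
    decide_eq_false_iff_not] at h1
  have hm : c * el (aCode 24) * c⁻¹ ∈ subB := h ▸ Subgroup.mem_map_of_mem _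
    (mem_subA.2 (by rw [el_val (code_facts (v := 24) (by norm_num)).2.2.1]; exact (code_facts (by norm_num)).1))
  exact h1 _ (mem_subB.1 hm) (class_conj (by norm_num) (List.contains_iff_mem.1 h2) c)

theorem hnc_BA (c : Cen splitTab) : subB.map (MulAut.conj c).toMonoidHom ≠ subA := by
  intro h
  refine hnc_AB c⁻¹ ?_
  rw [← h, Subgroup.map_map, show (MulAut.conj c⁻¹).toMonoidHom.comp (MulAut.conj c).toMonoidHom =
    MonoidHom.id (Cen splitTab) from MonoidHom.ext fun y => by simp [mul_assoc], Subgroup.map_id]

theorem elem_ab (H : Subgroup (Cen splitTab)) (L : List ℕ) (hH : ∀ x, x ∈ H ↔ x.val ∈ L) (code : ℕ → ℕ)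
    (hs : ∀ n ∈ L, ∃ v < 64, code v = n) (hm : ∀ v < 64, ∀ w < 64, el (code v) * el (code w) = el (code (v ^^^ w)))
    (h0 : code 0 = 0) : (∀ a ∈ H, a * a = 1) ∧ ∀ a ∈ H, ∀ b ∈ H, a * b = b * a := by
  refine ⟨fun a ha => ?_, fun a ha b hb => ?_⟩
  · obtain ⟨v, hv, he⟩ := hs _ ((hH a).1 ha)
    rw [← el_of_val a, ← he, hm v hv v hv, Nat.xor_self, h0, el_zero]
  · obtain ⟨v, hv, he⟩ := hs _ ((hH a).1 ha)
    obtain ⟨w, hw, he'⟩ := hs _ ((hH b).1 hb)
    rw [← el_of_val a, ← el_of_val b, ← he, ← he', hm v hv w hw, hm w hw v hv, Nat.xor_comm]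

include he in
theorem closed_sideA (hG : Nat.card G = 4030387200) (g : G)
    (hg : IsPGroup 2 (sideA e ⊔ (sideA e).map (MulAut.conj g).toMonoidHom : Subgroup G)) :
    (sideA e).map (MulAut.conj g).toMonoidHom = sideA e := by
  have h := few_commuting
  simp only [List.all_eq_true, Bool.or_eq_true, decide_eq_true_eq, List.contains_iff_mem, or_assoc] at h
  obtain ⟨h1, h2⟩ := elem_ab subA aList (fun _ => mem_subA) aCode (fun n => code_surj.1)
    (fun v hv w hw => (code_mul hv hw).1) side_special.1
  exact closed_of_list e he hG subA subB aList bList (fun _ => mem_subA) (fun _ => mem_subB) card_subA card_subB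
    (fun x hx => mem_sylC.2 (aList_lt (mem_subA.1 hx))) (fun x hx => mem_sylC.2 (bList_lt (mem_subB.1 hx)))
    normalizer_subB.2 h1 h2 h hnc_AB g hg

include he in
theorem closed_sideB (hG : Nat.card G = 4030387200) (g : G)
    (hg : IsPGroup 2 (sideB e ⊔ (sideB e).map (MulAut.conj g).toMonoidHom : Subgroup G)) :
    (sideB e).map (MulAut.conj g).toMonoidHom = sideB e := by
  have h := few_commuting
  simp only [List.all_eq_true, Bool.or_eq_true, decide_eq_true_eq, List.contains_iff_mem] at h
  obtain ⟨h1, h2⟩ := elem_ab subB bList (fun _ => mem_subB) bCode (fun n => code_surj.2)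
    (fun v hv w hw => (code_mul hv hw).2) side_special.2.1
  exact closed_of_list e he hG subB subA bList aList (fun _ => mem_subB) (fun _ => mem_subA) card_subB card_subA
    (fun x hx => mem_sylC.2 (bList_lt (mem_subB.1 hx))) (fun x hx => mem_sylC.2 (aList_lt (mem_subA.1 hx)))
    normalizer_subA.2 h1 h2
    (fun x hx => (h x hx).elim (fun h' => h'.elim (fun a => Or.inr (Or.inl a)) Or.inl) fun a => Or.inr (Or.inr a))
    hnc_BA g hg

theorem card_normalizer_inf (H : Subgroup (Cen splitTab)) :
    Nat.card (normalizer ((H.map (incl e) : Subgroup G) : Set G) ⊓ centralizer {t} : Subgroup G) =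
      Nat.card (normalizer (H : Set (Cen splitTab))) := by
  have hinj := incl_injective e
  have heq : (normalizer (H : Set (Cen splitTab))).map (incl e) =
      normalizer ((H.map (incl e) : Subgroup G) : Set G) ⊓ centralizer {t} := by
    refine le_antisymm ?_ ?_
    · rintro _ ⟨x, hx, rfl⟩
      refine ⟨Subgroup.mem_set_normalizer_iff.2 fun w => ⟨?_, ?_⟩, incl_mem e x⟩
      · rintro ⟨b, hb, rfl⟩
        exact ⟨x * b * x⁻¹, (Subgroup.mem_set_normalizer_iff.1 hx b).1 hb, by rw [map_mul, map_mul, map_inv]⟩
      · rintro ⟨b, hb, hbw⟩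
        refine ⟨x⁻¹ * b * x, ?_, ?_⟩
        · have := (Subgroup.mem_set_normalizer_iff.1 (inv_mem hx) b).1 hb
          rwa [inv_inv] at this
        · rw [map_mul, map_mul, map_inv, hbw]
          group
    · rintro g ⟨hg, hgc⟩
      obtain ⟨x, rfl⟩ := exists_incl e hgc
      refine ⟨x, Subgroup.mem_set_normalizer_iff.2 fun b => ⟨fun hb => ?_, fun hb => ?_⟩, rfl⟩
      · have h := (Subgroup.mem_set_normalizer_iff.1 hg (incl e b)).1 (Subgroup.mem_map_of_mem _ hb)
        rw [← map_inv, ← map_mul, ← map_mul] at h
        exact (Subgroup.mem_map_iff_mem hinj).1 h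
      · have h := (Subgroup.mem_set_normalizer_iff.1 hg (incl e b)).2 (by
          rw [← map_inv, ← map_mul, ← map_mul]; exact Subgroup.mem_map_of_mem _ hb)
        exact (Subgroup.mem_map_iff_mem hinj).1 h
  rw [← heq, Subgroup.card_map_of_injective hinj]

include he ht in
theorem class_label (code : ℕ → ℕ) (L : List ℕ) (hl : labelled code L = true) (hcode : code 0 = 0)
    (hlt : ∀ v < 64, code v < 21504) {v : ℕ} (hv : v < 64) :
    IsConj t (incl e (el (code v))) ↔ inZ (patt e) (L.getD v 9) = true := by
  simp only [labelled, List.all_eq_true, List.mem_range, Bool.or_eq_true, Bool.and_eq_true, beq_iff_eq,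
    decide_eq_true_eq, List.contains_iff_mem] at hl
  rcases hl v hv with (⟨h9, h0⟩ | ⟨h8, hz⟩) | ⟨h7, hc⟩
  · refine iff_of_false (fun h => ?_) (by rw [h9]; simp [inZ])
    rw [h0, hcode, el_zero, map_one] at h
    obtain ⟨g, hg⟩ := isConj_iff.1 h
    rw [conj_eq_one_iff] at hg
    rw [hg, orderOf_one] at ht
    omega
  · exact iff_of_true (by rw [hz, incl_z e he]) (by rw [h8]; simp [inZ])
  · rw [patt_iff e h7 hc]
    simp only [inZ, Bool.or_eq_true, Bool.and_eq_true, decide_eq_true_eq, beq_iff_eq]
    exact ⟨fun h => Or.inr ⟨h7, h⟩, fun h => (h.resolve_left (by omega)).2⟩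

/-- `A` with its coordinates -/
noncomputable def sideDataA (hG : Nat.card G = 4030387200) : Side t labA (patt e) where
  A := sideA e
  pgroup := IsPGroup.of_card (n := 6) (by rw [sideA, Subgroup.card_map_of_injective (incl_injective e), card_subA]; norm_num)
  comm := by
    rintro _ ⟨a, ha, rfl⟩ _ ⟨b, hb, rfl⟩
    rw [← map_mul, ← map_mul, (elem_ab subA aList (fun _ => mem_subA) aCode (fun n => code_surj.1)
      (fun v hv w hw => (code_mul hv hw).1) side_special.1).2 a ha b hb]
  closed := closed_sideA e he hG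
  zmem := ⟨el zCode, mem_subA.2 (by
    rw [el_val (by norm_num [zCode]), ← side_special.2.2.1]; exact (code_facts (by norm_num)).1), incl_z e he⟩
  f v := incl e (el (aCode v))
  f_mem v hv := Subgroup.mem_map_of_mem _ (mem_subA.2 (by rw [el_val (code_facts hv).2.2.1]; exact (code_facts hv).1))
  f_surj := by
    rintro _ ⟨x, hx, rfl⟩
    obtain ⟨v, hv, h⟩ := code_surj.1 (mem_subA.1 hx)
    exact ⟨v, hv, by rw [h, el_of_val]⟩
  f_inj v hv w hw h := by
    have h' := el_inj (code_facts hv).2.2.1 (code_facts hw).2.2.1 (incl_injective e h)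
    rw [aCode, aCode, getD_get _ _ (by rw [side_codes.2.2.1]; exact hv),
      getD_get _ _ (by rw [side_codes.2.2.1]; exact hw)] at h'
    exact (List.Nodup.getElem_inj_iff side_codes.2.2.2.2.1).1 h'
  f_xor v hv w hw := by rw [← map_mul, (code_mul hv hw).1]
  f_class v hv := class_label e he ht aCode labA labels_ok.1 side_special.1 (fun v hv => (code_facts hv).2.2.1) hv

/-- `B` with its coordinates -/
noncomputable def sideDataB (hG : Nat.card G = 4030387200) : Side t labB (patt e) where
  A := sideB e
  pgroup := IsPGroup.of_card (n := 6) (by rw [sideB, Subgroup.card_map_of_injective (incl_injective e), card_subB]; norm_num)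
  comm := by
    rintro _ ⟨a, ha, rfl⟩ _ ⟨b, hb, rfl⟩
    rw [← map_mul, ← map_mul, (elem_ab subB bList (fun _ => mem_subB) bCode (fun n => code_surj.2)
      (fun v hv w hw => (code_mul hv hw).2) side_special.2.1).2 a ha b hb]
  closed := closed_sideB e he hG
  zmem := ⟨el zCode, mem_subB.2 (by
    rw [el_val (by norm_num [zCode]), ← side_special.2.2.2]; exact (code_facts (by norm_num)).2.1), incl_z e he⟩
  f v := incl e (el (bCode v))
  f_mem v hv := Subgroup.mem_map_of_mem _ (mem_subB.2 (by rw [el_val (code_facts hv).2.2.2]; exact (code_facts hv).2.1))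
  f_surj := by
    rintro _ ⟨x, hx, rfl⟩
    obtain ⟨v, hv, h⟩ := code_surj.2 (mem_subB.1 hx)
    exact ⟨v, hv, by rw [h, el_of_val]⟩
  f_inj v hv w hw h := by
    have h' := el_inj (code_facts hv).2.2.2 (code_facts hw).2.2.2 (incl_injective e h)
    rw [bCode, bCode, getD_get _ _ (by rw [side_codes.2.2.2.1]; exact hv),
      getD_get _ _ (by rw [side_codes.2.2.2.1]; exact hw)] at h'
    exact (List.Nodup.getElem_inj_iff side_codes.2.2.2.2.2).1 h'
  f_xor v hv w hw := by rw [← map_mul, (code_mul hv hw).2]
  f_class v hv := class_label e he ht bCode labB labels_ok.2 side_special.2.1 (fun v hv => (code_facts hv).2.2.2) hv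

include he ht in
/-- **the two possible patterns** -/
theorem patt_cases [IsSimpleGroup G] (hns : ¬ IsMulCommutative G) (hG : Nat.card G = 4030387200) :
    patt e = 11 ∨ patt e = 107 := by
  classical
  have hF := nComm_eq e he ht
  have hC : Nat.card (centralizer ({t} : Set G)) = 21504 := by rw [← Nat.card_congr e.toEquiv, Cen.natCard]
  have hm : patt e < 128 := patOf_lt _
  have hE' : (patt e).testBit 0 = true ∨ (patt e).testBit 1 = true → ∃ E : Subgroup G, Nat.card E = 16 ∧
      ∀ x ∈ E, x ≠ 1 → IsConj t x := by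
    intro hE
    obtain ⟨c, hc, hb⟩ : ∃ c, (c = 0 ∨ c = 1) ∧ (patt e).testBit c = true := by
      rcases hE with h | h
      · exact ⟨0, Or.inl rfl, h⟩
      · exact ⟨1, Or.inr rfl, h⟩
    have hc7 : c < 7 := by rcases hc with rfl | rfl <;> norm_num
    have hlt : ∀ n ∈ fourCodes c, n < 21504 := by
      intro n hn
      simp only [fourCodes, List.mem_cons] at hn
      rcases hn with rfl | rfl | hn
      · norm_num
      · norm_num [zCode]
      · exact (classL_lt hc7 hn).1
    have hcl : ∀ a b, (fourCodes c).contains a = true → (fourCodes c).contains b = true →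
        (fourCodes c).contains (mulC a b) = true := by
      intro a b ha hb
      obtain ⟨h0, h1⟩ := four_closed
      simp only [List.all_eq_true, List.contains_iff_mem] at h0 h1 ha hb ⊢
      rcases hc with rfl | rfl
      exacts [h0 a ha b hb, h1 a ha b hb]
    let E := listSub (fun n => (fourCodes c).contains n) (List.contains_iff_mem.2 List.mem_cons_self)
      (fun n hn => hlt n (List.contains_iff_mem.1 hn)) hcl
    have hnd : (fourCodes c).Nodup := by rcases hc with rfl | rfl <;> decide
    have hlen : (fourCodes c).length = 16 := by rcases hc with rfl | rfl <;> decide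
    refine ⟨E.map (incl e), ?_, ?_⟩
    · rw [Subgroup.card_map_of_injective (incl_injective e),
        card_list_subgroup E (fourCodes c) (fun x => List.contains_iff_mem) hnd hlt, hlen]
    · rintro _ ⟨x, hx, rfl⟩ hx1
      rw [isConj_iff_pattern e he ht]
      have hx' : x.val ∈ fourCodes c := List.contains_iff_mem.1 hx
      simp only [fourCodes, List.mem_cons] at hx'
      rcases hx' with h0 | h0 | h0
      · exact absurd (by rw [← el_of_val x, h0, el_zero, map_one]) hx1
      · exact Or.inl (by rw [← el_of_val x, h0])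
      · exact Or.inr ⟨c, hc7, hb, h0⟩
  rcases pattern_three hm (sideDataA e he ht hG) (sideDataB e he ht hG) hG hC
    (by rw [show (sideDataA e he ht hG).A = sideA e from rfl, sideA, card_normalizer_inf, normalizer_subA.1])
    (by rw [show (sideDataB e he ht hG).A = sideB e from rfl, sideB, card_normalizer_inf, normalizer_subB.1])
    hF hE' with h | h | h
  · exfalso
    rw [h] at hF
    exact false_of_isolated_pattern hns ht hF
  · exact Or.inl h
  · exact Or.inr h

include he ht in
/-- the order of the normaliser of `A` -/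
theorem card_normalizer_sideA (hG : Nat.card G = 4030387200) :
    Nat.card (normalizer (sideA e : Set G)) = (omegaL labA (patt e)).length * 3072 :=
  (sideDataA e he ht hG).card_normalizer
    (by rw [show (sideDataA e he ht hG).A = sideA e from rfl, sideA, card_normalizer_inf, normalizer_subA.1])

include he ht in
/-- the order of the normaliser of `B` -/
theorem card_normalizer_sideB (hG : Nat.card G = 4030387200) :
    Nat.card (normalizer (sideB e : Set G)) = (omegaL labB (patt e)).length * 3072 :=
  (sideDataB e he ht hG).card_normalizer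
    (by rw [show (sideDataB e he ht hG).A = sideB e from rfl, sideB, card_normalizer_inf, normalizer_subB.1])

include he ht in
/-- the normaliser of `A` is transitive on the conjugates of `t` in it -/
theorem transitive_sideA (hG : Nat.card G = 4030387200) {a : G} (ha : a ∈ sideA e) (h : IsConj t a) :
    ∃ n ∈ normalizer (sideA e : Set G), n * t * n⁻¹ = a :=
  exists_normalizer_conj (sideA e) (sideDataA e he ht hG).pgroup (sideDataA e he ht hG).comm
    (closed_sideA e he hG) (sideDataA e he ht hG).zmem ha h

include he ht in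
/-- the normaliser of `B` is transitive on the conjugates of `t` in it -/
theorem transitive_sideB (hG : Nat.card G = 4030387200) {a : G} (ha : a ∈ sideB e) (h : IsConj t a) :
    ∃ n ∈ normalizer (sideB e : Set G), n * t * n⁻¹ = a :=
  exists_normalizer_conj (sideB e) (sideDataB e he ht hG).pgroup (sideDataB e he ht hG).comm
    (closed_sideB e he hG) (sideDataB e he ht hG).zmem ha h

end CfsgLib.Spor.HeldFusion
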