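import Cfsg.Agent.Lib.Spor.HeldFusion.OtherChecks

/-!
# Held type groups: three of the four candidates for the centraliser do not occur
-/

set_option autoImplicit false
set_option linter.unusedSectionVars false
set_option linter.style.haveILetI false
set_option maxRecDepth 100000

namespace CfsgLib.Spor.HeldFusion

open CfsgLib.Spor.HeldRecog Subgroup

variable {G : Type*} [Group G] [Finite G] {t : G}

/-- with the candidate splitTwist the central involution is fused with no other element of its centraliser -/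
theorem splitTwist_fixed (ht : orderOf t = 2) (φ : Cen splitTwistTab ≃* centralizer ({t} : Set G))
    (hz : (φ (⟨64, by norm_num⟩ : Cen splitTwistTab) : G) = t) (x : Cen splitTwistTab) (ha : IsConj t (φ x : G)) :
    x = ⟨64, by norm_num⟩ := by
  by_contra hne'
  obtain ⟨i, hi, -, x', -, -, j, hj, -, hij⟩ := fused_match (fun _ _ => rfl) rfl φ
    (fun a ha => cover_spec (fun _ _ => rfl) splitTwistC_cover rfl a ha) splitTwistC_trees rfl hz ht x ha hne'
  have hlen : splitTwistCClasses.length = 4 := rfl
  rw [hlen] at hi hj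
  rw [(splitTwistC_val hi).1, (splitTwistC_val hj).2] at hij
  interval_cases i <;> interval_cases j <;> simp at hij

/-- **the candidate splitTwist does not occur** -/
theorem false_of_splitTwist [IsSimpleGroup G] (hns : ¬ IsMulCommutative G) (ht : orderOf t = 2)
    (φ : Cen splitTwistTab ≃* centralizer ({t} : Set G)) (hz : (φ (⟨64, by norm_num⟩ : Cen splitTwistTab) : G) = t) : False := by
  refine false_of_isolated hns ht fun a ha hc => ?_
  obtain ⟨x, hx⟩ : ∃ x, (φ x : G) = a :=
    ⟨φ.symm ⟨a, mem_centralizer_singleton_iff.2 hc.eq.symm⟩, congrArg Subtype.val (φ.apply_symm_apply _)⟩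
  subst hx
  rw [splitTwist_fixed ht φ hz x ha, hz]

/-- with the candidate uniTwist the central involution is fused with no other element of its centraliser -/
theorem uniTwist_fixed (ht : orderOf t = 2) (φ : Cen uniTwistTab ≃* centralizer ({t} : Set G))
    (hz : (φ (⟨64, by norm_num⟩ : Cen uniTwistTab) : G) = t) (x : Cen uniTwistTab) (ha : IsConj t (φ x : G)) :
    x = ⟨64, by norm_num⟩ := by
  by_contra hne'
  obtain ⟨i, hi, -, x', -, -, j, hj, -, hij⟩ := fused_match (fun _ _ => rfl) rfl φ
    (fun a ha => cover_spec (fun _ _ => rfl) uniTwistC_cover rfl a ha) uniTwistC_trees rfl hz ht x ha hne'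
  have hlen : uniTwistCClasses.length = 3 := rfl
  rw [hlen] at hi hj
  rw [(uniTwistC_val hi).1, (uniTwistC_val hj).2] at hij
  interval_cases i <;> interval_cases j <;> simp at hij

/-- **the candidate uniTwist does not occur** -/
theorem false_of_uniTwist [IsSimpleGroup G] (hns : ¬ IsMulCommutative G) (ht : orderOf t = 2)
    (φ : Cen uniTwistTab ≃* centralizer ({t} : Set G)) (hz : (φ (⟨64, by norm_num⟩ : Cen uniTwistTab) : G) = t) : False := by
  refine false_of_isolated hns ht fun a ha hc => ?_
  obtain ⟨x, hx⟩ : ∃ x, (φ x : G) = a :=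
    ⟨φ.symm ⟨a, mem_centralizer_singleton_iff.2 hc.eq.symm⟩, congrArg Subtype.val (φ.apply_symm_apply _)⟩
  subst hx
  rw [uniTwist_fixed ht φ hz x ha, hz]

/-- with the candidate uni the fused elements lie in one class -/
theorem uni_fused_class (ht : orderOf t = 2) (φ : Cen uniTab ≃* centralizer ({t} : Set G))
    (hz : (φ (⟨64, by norm_num⟩ : Cen uniTab) : G) = t) :
    ∀ x, IsConj t (φ x : G) → x ≠ (⟨64, by norm_num⟩ : Cen uniTab) → x.val ∈ uniCClasses.getD 1 [] := by
  classical
  set z : Cen uniTab := ⟨64, by norm_num⟩ with hzdef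
  have hmatch := fused_match (fun _ _ => rfl) rfl φ (fun a ha => cover_spec (fun _ _ => rfl) uniC_cover rfl a ha)
    uniC_trees rfl hz ht
  have hlen : uniCClasses.length = 4 := rfl
  have hno : ∀ i, i < 4 → i ≠ 1 → ∀ x : Cen uniTab, IsConj t (φ x : G) → x ≠ z →
      x.val ∈ uniCClasses.getD i [] → False := by
    -- the classes 0 and 3 have no roots, so the class 2 must pair with 1 or 2
    have huniq : ∀ {i j : ℕ} {n : ℕ}, i < 4 → j < 4 → n ∈ uniCClasses.getD i [] → n ∈ uniCClasses.getD j [] → i = j := by
      have h : ((List.range 4).all fun i => (List.range 4).all fun j => i == j ||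
          (uniCClasses.getD i []).all fun n => !(uniCClasses.getD j []).contains n) = true := by decide +kernel
      intro i j n hi hj hni hnj
      simp only [List.all_eq_true, List.mem_range, Bool.or_eq_true, beq_iff_eq, Bool.not_eq_eq_eq_not, Bool.not_true,
        List.contains_eq_mem, decide_eq_false_iff_not] at h
      rcases h i hi j hj with h' | h'
      exacts [h', absurd hnj (h' n hni)]
    have h03 : ∀ i, i = 0 ∨ i = 3 → ∀ x : Cen uniTab, IsConj t (φ x : G) → x ≠ z →
        x.val ∈ uniCClasses.getD i [] → False := by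
      intro i hi x hx hne hxi
      obtain ⟨k, hk, hxk, x', -, -, j, hj, -, hij⟩ := hmatch x hx hne
      rw [hlen] at hk hj
      obtain rfl := huniq hk (by omega) hxk hxi
      rw [(uniC_val hk).1, (uniC_val hj).2] at hij
      rcases hi with rfl | rfl <;> interval_cases j <;> simp at hij
    intro i hi4 hi1 x hx hne hxi
    rcases (show i = 0 ∨ i = 3 ∨ i = 2 by omega) with h | h | rfl
    · exact h03 i (Or.inl h) x hx hne hxi
    · exact h03 i (Or.inr h) x hx hne hxi
    · obtain ⟨k, hk, hxk, x', hx', hne', j, hj, hxj, hij⟩ := hmatch x hx hne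
      rw [hlen] at hk hj
      obtain rfl := huniq hk (by norm_num) hxk hxi
      rw [(uniC_val hk).1, (uniC_val hj).2] at hij
      interval_cases j
      · simp at hij
      · simp at hij
      · simp at hij
      · exact h03 3 (Or.inr rfl) x' hx' hne' hxj
  intro x hx hne
  obtain ⟨i, hi, hxi, -⟩ := hmatch x hx hne
  rw [hlen] at hi
  by_cases h : i = 1
  · exact h ▸ hxi
  · exact (hno i hi h x hx hne hxi).elim

/-- **the candidate uni does not occur** -/
theorem false_of_uni [IsSimpleGroup G] (hns : ¬ IsMulCommutative G) (ht : orderOf t = 2)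
    (hG : Nat.card G = 4030387200) (φ : Cen uniTab ≃* centralizer ({t} : Set G))
    (hz : (φ (⟨64, by norm_num⟩ : Cen uniTab) : G) = t) : False := by
  classical
  set z : Cen uniTab := ⟨64, by norm_num⟩ with hzdef
  by_cases hex : ∃ x, IsConj t (φ x : G) ∧ x ≠ z
  swap
  · refine false_of_isolated hns ht fun a ha hc => ?_
    obtain ⟨x, hx⟩ : ∃ x, (φ x : G) = a :=
      ⟨φ.symm ⟨a, mem_centralizer_singleton_iff.2 hc.eq.symm⟩, congrArg Subtype.val (φ.apply_symm_apply _)⟩
    subst hx
    by_contra hne
    exact hex ⟨x, ha, fun h => hne (by rw [h]; exact hz)⟩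
  obtain ⟨x₀, hx₀, hne₀⟩ := hex
  have hin := uni_fused_class ht φ hz
  set L : List ℕ := 0 :: 64 :: uniCClasses.getD 1 [] with hL
  have hLfacts : (L.all fun a => decide (a < 21504) && L.all fun b => L.contains (uniTab.mul a b)) = true ∧
      L.Nodup ∧ L.length = 16 := by decide +kernel
  obtain ⟨hcl, hnd, hl16⟩ := hLfacts
  simp only [List.all_eq_true, Bool.and_eq_true, decide_eq_true_eq, List.contains_iff_mem] at hcl
  have hfused : ∀ x : Cen uniTab, x.val ∈ L → x.val ≠ 0 → IsConj t (φ x : G) := by
    intro x hx hx0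
    rw [hL, List.mem_cons, List.mem_cons] at hx
    rcases hx with h | h | h
    · exact absurd h hx0
    · rw [show x = z from Cen.ext h, hz]
    · obtain ⟨_, _, hcx, -⟩ := conj_in_class (T := uniTab) (fun _ _ => rfl) rfl uniC_trees (show 1 < 4 by norm_num) h
      obtain ⟨_, _, hc0, -⟩ := conj_in_class (T := uniTab) (fun _ _ => rfl) rfl uniC_trees (show 1 < 4 by norm_num)
        (hin x₀ hx₀ hne₀)
      have h1 : IsConj (φ x₀ : G) (φ x : G) :=
        ((centralizer ({t} : Set G)).subtype.comp φ.toMonoidHom).map_isConj (hc0.symm.trans hcx)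
      exact hx₀.trans h1
  have hback : ∀ x : Cen uniTab, IsConj t (φ x : G) → x.val ∈ L ∧ x.val ≠ 0 := by
    intro x hx
    rw [hL, List.mem_cons, List.mem_cons]
    by_cases h : x = z
    · rw [h]; exact ⟨Or.inr (Or.inl rfl), by norm_num [hzdef]⟩
    · have h1 := hin x hx h
      obtain ⟨_, _, -, h0, -⟩ := conj_in_class (T := uniTab) (fun _ _ => rfl) rfl uniC_trees (show 1 < 4 by norm_num) h1
      exact ⟨Or.inr (Or.inr h1), h0⟩
  let incl : Cen uniTab →* G := (centralizer ({t} : Set G)).subtype.comp φ.toMonoidHom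
  have hinj : Function.Injective incl := (centralizer ({t} : Set G)).subtype_injective.comp φ.injective
  let E : Subgroup (Cen uniTab) :=
    { carrier := {x | x.val ∈ L}
      mul_mem' := fun {a b} ha hb => (hcl a.val ha).2 b.val hb
      one_mem' := List.mem_cons_self
      inv_mem' := fun {a} ha => by
        show (a⁻¹).val ∈ L
        have hpow : ∀ n : ℕ, (a ^ n).val ∈ L := by
          intro n
          induction n with
          | zero => rw [pow_zero]; exact List.mem_cons_self
          | succ n ih => rw [pow_succ]; exact (hcl _ ih).2 _ ha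
        rw [show a⁻¹ = a ^ (orderOf a - 1) from inv_eq_of_mul_eq_one_right (by
          rw [← pow_succ', Nat.sub_add_cancel (orderOf_pos a), pow_orderOf_eq_one])]
        exact hpow _ }
  have hEc : Nat.card E = 16 := by
    let ψ : {n : ℕ // n ∈ L} → E := fun n => ⟨⟨n.1, (hcl n.1 n.2).1⟩, n.2⟩
    have hψ : Function.Bijective ψ :=
      ⟨fun a b h => Subtype.ext (congrArg (fun w : E => w.1.val) h), fun a => ⟨⟨a.1.val, a.2⟩, rfl⟩⟩
    rw [← Nat.card_congr (Equiv.ofBijective ψ hψ), Nat.card_eq_fintype_card, ← hl16]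
    exact (Fintype.card_of_subtype L.toFinset fun n => List.mem_toFinset).trans (List.toFinset_card_of_nodup hnd)
  have hdvd := card_dvd_fixed t (E.map incl) fun e he he1 => by
    obtain ⟨x, hx, rfl⟩ := he
    exact hfused x hx fun h => he1 (by rw [show x = 1 from Cen.ext h, map_one])
  have hF : nComm t = 15 := by
    haveI := Fintype.ofFinite E
    have hE1 : Nat.card {x : E // x ≠ 1} = 15 := by
      rw [Nat.card_eq_fintype_card, Fintype.card_subtype_compl, Fintype.card_subtype_eq, ← Nat.card_eq_fintype_card, hEc]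
    rw [nComm, ← hE1]
    symm
    refine Nat.card_congr (Equiv.ofBijective
      (fun x : {x : E // x ≠ 1} => (⟨incl x.1.1, hfused x.1.1 x.1.2 fun h => x.2 (Subtype.ext (Cen.ext h)),
        (mem_centralizer_singleton_iff.1 (φ x.1.1).2).symm⟩ : {a : G // IsConj t a ∧ Commute t a}))
      ⟨fun a b h => Subtype.ext (Subtype.ext (hinj (congrArg Subtype.val h :))), fun a => ?_⟩)
    obtain ⟨x, hx⟩ : ∃ x, (φ x : G) = a.1 :=
      ⟨φ.symm ⟨a.1, mem_centralizer_singleton_iff.2 a.2.2.eq.symm⟩, congrArg Subtype.val (φ.apply_symm_apply _)⟩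
    have hb := hback x (by rw [hx]; exact a.2.1)
    exact ⟨⟨⟨x, hb.1⟩, fun h => hb.2 (congrArg (fun w : E => w.1.val) h)⟩, Subtype.ext hx⟩
  rw [Subgroup.card_map_of_injective hinj, hEc, hF] at hdvd
  have hn := nConj_mul t
  rw [← Nat.card_congr φ.toEquiv, Cen.natCard, hG] at hn
  omega

end CfsgLib.Spor.HeldFusion
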