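import Cfsg.Agent.Lib.Spor.HeldFusion.OtherTools
import Cfsg.Agent.Lib.Spor.HeldFusion.OtherData
import Cfsg.Agent.Lib.Spor.HeldRecog.Model.SplitTwist
import Cfsg.Agent.Lib.Spor.HeldRecog.Model.Uni
import Cfsg.Agent.Lib.Spor.HeldRecog.Model.UniTwist

/-!
# Held type groups: certificates for the three candidates that do not occur
-/

set_option autoImplicit false
set_option linter.unusedSectionVars false
set_option linter.style.haveILetI false
set_option maxRecDepth 100000

namespace CfsgLib.Spor.HeldFusion

open CfsgLib.Spor.HeldRecog Subgroup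

theorem splitTwistC_cover : coverOK splitTwistTab splitTwistCClasses = true := by decide +kernel

theorem splitTwistC_trees : treesOK splitTwistTab splitTwistCGens splitTwistCInv splitTwistCClasses splitTwistCTrees = true := by decide +kernel

theorem splitTwistC_roots : ((List.range 4).map fun i => rootsCode splitTwistTab ((splitTwistCClasses.getD i []).getD 0 0)) = [48, 48, 16, 8] ∧
    ((List.range 4).map fun i => rootsComm splitTwistTab ((splitTwistCClasses.getD i []).getD 0 0)) = [192, 192, 112, 32] := by
  decide +kernel

theorem splitTwistC_val {i : ℕ} (hi : i < 4) :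
    rootsCode splitTwistTab ((splitTwistCClasses.getD i []).getD 0 0) = ([48, 48, 16, 8] : List ℕ).getD i 0 ∧
      rootsComm splitTwistTab ((splitTwistCClasses.getD i []).getD 0 0) = ([192, 192, 112, 32] : List ℕ).getD i 0 := by
  rw [← splitTwistC_roots.1, ← splitTwistC_roots.2]
  refine ⟨?_, ?_⟩
  all_goals
    conv_rhs => rw [List.getD_eq_getElem?_getD, List.getElem?_map, List.getElem?_range hi]
    rfl

theorem uniC_cover : coverOK uniTab uniCClasses = true := by decide +kernel

theorem uniC_trees : treesOK uniTab uniCGens uniCInv uniCClasses uniCTrees = true := by decide +kernel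

theorem uniC_roots : ((List.range 4).map fun i => rootsCode uniTab ((uniCClasses.getD i []).getD 0 0)) = [0, 48, 8, 0] ∧
    ((List.range 4).map fun i => rootsComm uniTab ((uniCClasses.getD i []).getD 0 0)) = [24, 48, 16, 8] := by
  decide +kernel

theorem uniC_val {i : ℕ} (hi : i < 4) :
    rootsCode uniTab ((uniCClasses.getD i []).getD 0 0) = ([0, 48, 8, 0] : List ℕ).getD i 0 ∧
      rootsComm uniTab ((uniCClasses.getD i []).getD 0 0) = ([24, 48, 16, 8] : List ℕ).getD i 0 := by
  rw [← uniC_roots.1, ← uniC_roots.2]
  refine ⟨?_, ?_⟩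
  all_goals
    conv_rhs => rw [List.getD_eq_getElem?_getD, List.getElem?_map, List.getElem?_range hi]
    rfl

theorem uniTwistC_cover : coverOK uniTwistTab uniTwistCClasses = true := by decide +kernel

theorem uniTwistC_trees : treesOK uniTwistTab uniTwistCGens uniTwistCInv uniTwistCClasses uniTwistCTrees = true := by decide +kernel

theorem uniTwistC_roots : ((List.range 3).map fun i => rootsCode uniTwistTab ((uniTwistCClasses.getD i []).getD 0 0)) = [0, 48, 8] ∧
    ((List.range 3).map fun i => rootsComm uniTwistTab ((uniTwistCClasses.getD i []).getD 0 0)) = [72, 192, 56] := by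
  decide +kernel

theorem uniTwistC_val {i : ℕ} (hi : i < 3) :
    rootsCode uniTwistTab ((uniTwistCClasses.getD i []).getD 0 0) = ([0, 48, 8] : List ℕ).getD i 0 ∧
      rootsComm uniTwistTab ((uniTwistCClasses.getD i []).getD 0 0) = ([72, 192, 56] : List ℕ).getD i 0 := by
  rw [← uniTwistC_roots.1, ← uniTwistC_roots.2]
  refine ⟨?_, ?_⟩
  all_goals
    conv_rhs => rw [List.getD_eq_getElem?_getD, List.getElem?_map, List.getElem?_range hi]
    rfl

end CfsgLib.Spor.HeldFusion
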