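import Cfsg.Agent.Lib.Spor.HeldRecog.Model.Group
import Cfsg.Agent.Lib.Spor.HeldFusion.Fusion

/-!
# Held type groups: square roots and fusion with a central involution
-/

set_option autoImplicit false
set_option linter.unusedSectionVars false
set_option linter.style.haveILetI false

namespace CfsgLib.Spor.HeldFusion

open CfsgLib.Spor.HeldRecog Subgroup

/-- all codes -/
def allCodes : List ℕ := (List.range 168).flatMap fun a => (List.range 128).map fun q => 128 * a + q

theorem mem_allCodes {n : ℕ} : n ∈ allCodes ↔ n < 21504 := by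
  simp only [allCodes, List.mem_flatMap, List.mem_map, List.mem_range]
  exact ⟨fun ⟨a, ha, q, hq, h⟩ => by omega, fun h => ⟨n / 128, by omega, n % 128, by omega, by omega⟩⟩

theorem allCodes_nodup : allCodes.Nodup := by
  refine List.nodup_flatMap.2 ⟨fun a _ => List.nodup_range.map fun u v e => ?_, List.nodup_range.imp fun {a b} hab => ?_⟩
  · exact Nat.add_left_cancel e
  · intro x hxa hxb
    simp only [List.mem_map, List.mem_range] at hxa hxb
    obtain ⟨p, hp, rfl⟩ := hxa
    obtain ⟨q, hq, e⟩ := hxb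
    omega

variable (T : Tab)

/-- every involution other than 64 is listed -/
noncomputable def coverOK (cls : List (List ℕ)) : Bool :=
  allCodes.all fun x => !(Nat.beq (T.mul x x) 0) || Nat.beq x 0 || Nat.beq x 64 || cls.any fun l => l.contains x

/-- the trees connect the classes -/
noncomputable def treesOK (gens invs : List ℕ) (cls trees : List (List ℕ)) : Bool :=
  (gens.all fun g => decide (g < 21504)) && (invs.all fun g => decide (g < 21504)) && invs.length == gens.length &&
  ((List.range gens.length).all fun k => T.mul (gens.getD k 0) (invs.getD k 0) == 0) &&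
  (List.range cls.length).all fun i => ((cls.getD i []).all fun x => decide (x < 21504) && !(x == 0) && !(x == 64)) &&
    (List.range (cls.getD i []).length).all fun j => j == 0 ||
      decide ((trees.getD i []).getD j 0 / 16 < j) && decide ((trees.getD i []).getD j 0 % 16 < gens.length) &&
        (cls.getD i []).getD j 0 == T.mul (T.mul (gens.getD ((trees.getD i []).getD j 0 % 16) 0)
          ((cls.getD i []).getD ((trees.getD i []).getD j 0 / 16) 0)) (invs.getD ((trees.getD i []).getD j 0 % 16) 0)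

/-- the number of square roots -/
noncomputable def rootsCode (v : ℕ) : ℕ := (allCodes.filter fun a => Nat.beq (T.mul a a) v).length

/-- the number of square roots of 64 commuting with an element -/
noncomputable def rootsComm (x : ℕ) : ℕ :=
  (allCodes.filter fun a => Nat.beq (T.mul a a) 64 && Nat.beq (T.mul a x) (T.mul x a)).length

variable {T} [Group (Cen T)] (hmul : ∀ a b : Cen T, (a * b).val = T.mul a.val b.val) (hone : (1 : Cen T).val = 0)

include hmul in
theorem card_roots (x : Cen T) : Nat.card {a : Cen T // a * a = x} = rootsCode T x.val := by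
  classical
  let L := allCodes.filter fun a => Nat.beq (T.mul a a) x.val
  let φ : {n : ℕ // n ∈ L} → {a : Cen T // a * a = x} := fun n =>
    ⟨⟨n.1, mem_allCodes.1 (List.mem_filter.1 n.2).1⟩, Cen.ext (by
      rw [hmul]; exact Nat.eq_of_beq_eq_true (List.mem_filter.1 n.2).2)⟩
  have hφ : Function.Bijective φ := by
    refine ⟨fun a b h => Subtype.ext (congrArg (fun w => w.1.val) h), fun a => ?_⟩
    refine ⟨⟨a.1.val, List.mem_filter.2 ⟨mem_allCodes.2 a.1.lt, ?_⟩⟩, Subtype.ext (Cen.ext rfl)⟩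
    rw [← hmul, a.2]; exact Nat.beq_refl _
  rw [← Nat.card_congr (Equiv.ofBijective φ hφ), Nat.card_eq_fintype_card]
  exact (Fintype.card_of_subtype L.toFinset fun n => List.mem_toFinset).trans
    (List.toFinset_card_of_nodup (allCodes_nodup.filter _))

include hmul in
theorem card_roots_comm (z x : Cen T) (hz : z.val = 64) :
    Nat.card {a : Cen T // a * a = z ∧ Commute a x} = rootsComm T x.val := by
  classical
  let L := allCodes.filter fun a => Nat.beq (T.mul a a) 64 && Nat.beq (T.mul a x.val) (T.mul x.val a)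
  have hL : ∀ n : {n : ℕ // n ∈ L}, n.1 < 21504 ∧ T.mul n.1 n.1 = 64 ∧ T.mul n.1 x.val = T.mul x.val n.1 := fun n => by
    obtain ⟨h1, h2⟩ := List.mem_filter.1 n.2
    rw [Bool.and_eq_true] at h2
    exact ⟨mem_allCodes.1 h1, Nat.eq_of_beq_eq_true h2.1, Nat.eq_of_beq_eq_true h2.2⟩
  let φ : {n : ℕ // n ∈ L} → {a : Cen T // a * a = z ∧ Commute a x} := fun n =>
    ⟨⟨n.1, (hL n).1⟩, Cen.ext (by rw [hmul, hz]; exact (hL n).2.1), Cen.ext (by rw [hmul, hmul]; exact (hL n).2.2)⟩
  have hφ : Function.Bijective φ := by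
    refine ⟨fun a b h => Subtype.ext (congrArg (fun w => w.1.val) h), fun a => ?_⟩
    refine ⟨⟨a.1.val, List.mem_filter.2 ⟨mem_allCodes.2 a.1.lt, ?_⟩⟩, Subtype.ext (Cen.ext rfl)⟩
    rw [Bool.and_eq_true, ← hmul, ← hmul, ← hmul, a.2.1, a.2.2.eq, hz]
    exact ⟨Nat.beq_refl _, Nat.beq_refl _⟩
  rw [← Nat.card_congr (Equiv.ofBijective φ hφ), Nat.card_eq_fintype_card]
  exact (Fintype.card_of_subtype L.toFinset fun n => List.mem_toFinset).trans
    (List.toFinset_card_of_nodup (allCodes_nodup.filter _))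

include hmul hone in
theorem conj_in_class {gens invs : List ℕ} {cls trees : List (List ℕ)} (hok : treesOK T gens invs cls trees = true)
    {i n : ℕ} (hi : i < cls.length) (hn : n ∈ cls.getD i []) :
    ∃ (h : n < 21504) (h0 : (cls.getD i []).getD 0 0 < 21504),
      IsConj (⟨(cls.getD i []).getD 0 0, h0⟩ : Cen T) ⟨n, h⟩ ∧ n ≠ 0 ∧ n ≠ 64 := by
  simp only [treesOK, Bool.and_eq_true, List.all_eq_true, decide_eq_true_eq, List.mem_range, Bool.or_eq_true,
    beq_iff_eq, Bool.not_eq_eq_eq_not, Bool.not_true, beq_eq_false_iff_ne] at hok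
  obtain ⟨⟨⟨⟨hg, hv⟩, hlen⟩, hgv⟩, hcls⟩ := hok
  obtain ⟨hel, htree⟩ := hcls i hi
  have hget : ∀ (l : List ℕ) (j : ℕ), j < l.length → l.getD j 0 ∈ l := fun l j hj => by
    rw [List.getD_eq_getElem?_getD, List.getElem?_eq_getElem hj]
    exact List.getElem_mem _
  have key : ∀ j, j < (cls.getD i []).length → ∀ (h : (cls.getD i []).getD j 0 < 21504)
      (h0 : (cls.getD i []).getD 0 0 < 21504),
      IsConj (⟨(cls.getD i []).getD 0 0, h0⟩ : Cen T) ⟨(cls.getD i []).getD j 0, h⟩ := by
    intro j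
    induction j using Nat.strong_induction_on with
    | _ j ih =>
      intro hj h h0
      rcases Nat.eq_zero_or_pos j with rfl | hpos
      · exact IsConj.refl _
      obtain ⟨⟨h1, h2⟩, h3⟩ := (htree j hj).resolve_left (by omega)
      have hp := hel _ (hget _ _ (h1.trans hj))
      have hgl := hg _ (hget _ _ h2)
      have hvl := hv _ (hget _ _ (by rw [hlen]; exact h2))
      refine (ih _ h1 (h1.trans hj) hp.1.1 h0).trans (isConj_iff.2 ⟨⟨_, hgl⟩, ?_⟩)
      have hinv : (⟨_, hgl⟩ : Cen T)⁻¹ = ⟨_, hvl⟩ := inv_eq_of_mul_eq_one_right (Cen.ext (by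
        rw [hmul, hone]; exact hgv _ h2))
      rw [hinv]
      exact Cen.ext (by rw [hmul, hmul]; exact h3.symm)
  obtain ⟨j, hj, hjn⟩ := List.mem_iff_getElem.1 hn
  have hjn' : (cls.getD i []).getD j 0 = n := by
    rw [List.getD_eq_getElem?_getD, List.getElem?_eq_getElem hj, Option.getD_some, hjn]
  obtain ⟨⟨hlt, hn0⟩, hn64⟩ := hel n hn
  have h0 := (hel _ (hget _ _ (Nat.lt_of_le_of_lt (Nat.zero_le j) hj))).1.1
  refine ⟨hlt, h0, ?_, hn0, hn64⟩
  have := key j hj (hjn' ▸ hlt) h0
  simpa only [hjn'] using this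

variable {G : Type*} [Group G] {t : G} (φ : Cen T ≃* centralizer ({t} : Set G))

theorem card_roots_isConj {x y : Cen T} (h : IsConj x y) :
    Nat.card {a : Cen T // a * a = x} = Nat.card {a : Cen T // a * a = y} := by
  obtain ⟨c, rfl⟩ := isConj_iff.1 h
  refine Nat.card_congr (Equiv.subtypeEquiv (MulAut.conj c).toEquiv fun a => ?_)
  show _ ↔ MulAut.conj c a * MulAut.conj c a = MulAut.conj c x
  rw [← map_mul, EmbeddingLike.apply_eq_iff_eq]

theorem card_comm_isConj {z x y : Cen T} (hz : ∀ c, Commute c z) (h : IsConj x y) :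
    Nat.card {a : Cen T // a * a = z ∧ Commute a x} = Nat.card {a : Cen T // a * a = z ∧ Commute a y} := by
  obtain ⟨c, rfl⟩ := isConj_iff.1 h
  refine Nat.card_congr (Equiv.subtypeEquiv (MulAut.conj c).toEquiv fun a => ?_)
  have hzc : MulAut.conj c z = z := by rw [MulAut.conj_apply, (hz c).eq, mul_inv_cancel_right]
  show _ ↔ MulAut.conj c a * MulAut.conj c a = z ∧ Commute (MulAut.conj c a) (MulAut.conj c x)
  refine and_congr ?_ ⟨fun h => h.map _, fun h => ?_⟩
  · conv_rhs => rw [← map_mul, ← hzc, EmbeddingLike.apply_eq_iff_eq]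
  · exact (MulAut.conj c).injective (by rw [map_mul, map_mul]; exact h.eq)

/-- **reciprocity**: the roots of a fused involution are the roots of `t` fixing another fused involution -/
theorem reciprocity {z x : Cen T} (hz : (φ z : G) = t) (hx : IsConj t (φ x : G)) (hne : x ≠ z) :
    ∃ x' : Cen T, IsConj t (φ x' : G) ∧ x' ≠ z ∧
      Nat.card {a : Cen T // a * a = x} = Nat.card {a : Cen T // a * a = z ∧ Commute a x'} := by
  obtain ⟨g, hg⟩ := isConj_iff.1 hx
  set X : G := (φ x : G) with hX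
  have hXt : X * t = t * X := mem_centralizer_singleton_iff.1 (φ x).2
  have hgX : g⁻¹ * X * g = t := by rw [← hg]; group
  have hmem : g⁻¹ * t * g ∈ centralizer ({t} : Set G) := mem_centralizer_singleton_iff.2 (by
    calc g⁻¹ * t * g * t = g⁻¹ * t * g * (g⁻¹ * X * g) := by rw [hgX]
      _ = g⁻¹ * (t * X) * g := by group
      _ = g⁻¹ * (X * t) * g := by rw [hXt]
      _ = g⁻¹ * X * g * (g⁻¹ * t * g) := by group
      _ = t * (g⁻¹ * t * g) := by rw [hgX])
  obtain ⟨x', hx'⟩ : ∃ x', (φ x' : G) = g⁻¹ * t * g :=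
    ⟨φ.symm ⟨_, hmem⟩, congrArg Subtype.val (φ.apply_symm_apply _)⟩
  have hval : ∀ a b : Cen T, (φ (a * b) : G) = (φ a : G) * (φ b : G) := fun a b => by rw [map_mul]; rfl
  have hinj : ∀ a b : Cen T, (φ a : G) = (φ b : G) → a = b := fun a b h => φ.injective (Subtype.ext h)
  refine ⟨x', ?_, fun h => hne ?_, ?_⟩
  · rw [hx']; exact isConj_iff.2 ⟨g⁻¹, by rw [inv_inv]⟩
  · refine hinj _ _ ?_
    rw [h, hz] at hx'
    rw [hz, ← hX, ← hg]
    calc g * t * g⁻¹ = g * (g⁻¹ * t * g) * g⁻¹ := by rw [← hx']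
      _ = t := by group
  · have hin : ∀ a : Cen T, (g⁻¹ * (φ a : G) * g) * (g⁻¹ * (φ a : G) * g) = g⁻¹ * (φ (a * a) : G) * g := fun a => by
      rw [hval]; group
    have hto : ∀ a : {a : Cen T // a * a = x}, g⁻¹ * (φ a.1 : G) * g ∈ centralizer ({t} : Set G) := fun a => by
      refine mem_centralizer_singleton_iff.2 ?_
      have h : (g⁻¹ * (φ a.1 : G) * g) * (g⁻¹ * (φ a.1 : G) * g) = t := by rw [hin, a.2]; exact hgX
      generalize g⁻¹ * (φ a.1 : G) * g = b at h ⊢
      calc b * t = b * (b * b) := by rw [h]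
        _ = b * b * b := (mul_assoc b b b).symm
        _ = t * b := by rw [h]
    have hfrom : ∀ b : {b : Cen T // b * b = z ∧ Commute b x'}, g * (φ b.1 : G) * g⁻¹ ∈ centralizer ({t} : Set G) :=
      fun b => by
        refine mem_centralizer_singleton_iff.2 ?_
        have h1 : (φ b.1 : G) * (g⁻¹ * t * g) = g⁻¹ * t * g * (φ b.1 : G) := by
          rw [← hx', ← hval, ← hval, b.2.2.eq]
        calc g * (φ b.1 : G) * g⁻¹ * t = g * ((φ b.1 : G) * (g⁻¹ * t * g)) * g⁻¹ := by group
          _ = g * (g⁻¹ * t * g * (φ b.1 : G)) * g⁻¹ := by rw [h1]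
          _ = _ := by group
    refine Nat.card_congr
      { toFun := fun a => ⟨φ.symm ⟨_, hto a⟩, ?_, ?_⟩
        invFun := fun b => ⟨φ.symm ⟨_, hfrom b⟩, ?_⟩
        left_inv := fun a => ?_
        right_inv := fun b => ?_ }
    · refine hinj _ _ ?_
      rw [hval, MulEquiv.apply_symm_apply, hin, a.2, hz]
      exact hgX
    · refine hinj _ _ ?_
      rw [hval, hval, MulEquiv.apply_symm_apply, hx']
      have h1 : (φ a.1 : G) * t = t * (φ a.1 : G) := mem_centralizer_singleton_iff.1 (φ a.1).2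
      calc g⁻¹ * (φ a.1 : G) * g * (g⁻¹ * t * g) = g⁻¹ * ((φ a.1 : G) * t) * g := by group
        _ = g⁻¹ * (t * (φ a.1 : G)) * g := by rw [h1]
        _ = _ := by group
    · refine hinj _ _ ?_
      rw [hval, MulEquiv.apply_symm_apply]
      show g * (φ b.1 : G) * g⁻¹ * (g * (φ b.1 : G) * g⁻¹) = X
      rw [show g * (φ b.1 : G) * g⁻¹ * (g * (φ b.1 : G) * g⁻¹) = g * ((φ b.1 : G) * (φ b.1 : G)) * g⁻¹ by group,
        ← hval, b.2.1, hz, hg]
    · refine Subtype.ext (hinj _ _ ?_)
      simp only [MulEquiv.apply_symm_apply]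
      group
    · refine Subtype.ext (hinj _ _ ?_)
      simp only [MulEquiv.apply_symm_apply]
      group

include hmul hone in
/-- **what the certificates give**: a fused involution in a listed class matches a fused class -/
theorem fused_match {cls : List (List ℕ)} (hT : ∀ a : Cen T, a * a = 1 → a.val = 0 ∨ a.val = 64 ∨ ∃ i < cls.length, a.val ∈ cls.getD i [])
    {gens invs : List ℕ} {trees : List (List ℕ)} (hok : treesOK T gens invs cls trees = true)
    {z : Cen T} (hzv : z.val = 64) (hz : (φ z : G) = t) (ht : orderOf t = 2) :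
    ∀ x : Cen T, IsConj t (φ x : G) → x ≠ z → ∃ i < cls.length, x.val ∈ cls.getD i [] ∧
      ∃ x' : Cen T, IsConj t (φ x' : G) ∧ x' ≠ z ∧ ∃ j < cls.length, x'.val ∈ cls.getD j [] ∧
        rootsCode T ((cls.getD i []).getD 0 0) = rootsComm T ((cls.getD j []).getD 0 0) := by
  have hzc : ∀ c, Commute c z := fun c => φ.injective (Subtype.ext (by
    rw [map_mul, map_mul]
    show (φ c : G) * (φ z : G) = (φ z : G) * (φ c : G)
    rw [hz]; exact mem_centralizer_singleton_iff.1 (φ c).2))
  have hlist : ∀ x : Cen T, IsConj t (φ x : G) → x ≠ z → ∃ i < cls.length, x.val ∈ cls.getD i [] := by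
    intro x hx hne
    obtain ⟨g, hg⟩ := isConj_iff.1 hx
    have h2 : x * x = 1 := φ.injective (Subtype.ext (by
      rw [map_mul, map_one]
      show (φ x : G) * (φ x : G) = 1
      rw [← hg, show g * t * g⁻¹ * (g * t * g⁻¹) = g * (t * t) * g⁻¹ by group, ← pow_two, ← ht, pow_orderOf_eq_one,
        mul_one, mul_inv_cancel]))
    rcases hT x h2 with h | h | h
    · exfalso
      have hx1 : x = 1 := Cen.ext (h.trans hone.symm)
      rw [hx1, map_one] at hg
      have : t = 1 := conj_eq_one_iff.1 hg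
      rw [this, orderOf_one] at ht
      omega
    · exact absurd (Cen.ext (h.trans hzv.symm)) hne
    · exact h
  intro x hx hne
  obtain ⟨i, hi, hxi⟩ := hlist x hx hne
  refine ⟨i, hi, hxi, ?_⟩
  obtain ⟨x', hx', hne', hc⟩ := reciprocity φ hz hx hne
  obtain ⟨j, hj, hxj⟩ := hlist x' hx' hne'
  refine ⟨x', hx', hne', j, hj, hxj, ?_⟩
  obtain ⟨_, hi0, hci, -⟩ := conj_in_class hmul hone hok hi hxi
  obtain ⟨_, hj0, hcj, -⟩ := conj_in_class hmul hone hok hj hxj
  rw [← card_roots hmul ⟨_, hi0⟩, card_roots_isConj hci, ← card_roots_comm hmul z ⟨_, hj0⟩ hzv,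
    card_comm_isConj hzc hcj]
  exact hc

include hmul in
theorem cover_spec {cls : List (List ℕ)} (h : coverOK T cls = true) (hone : (1 : Cen T).val = 0) (a : Cen T)
    (ha : a * a = 1) : a.val = 0 ∨ a.val = 64 ∨ ∃ i < cls.length, a.val ∈ cls.getD i [] := by
  simp only [coverOK, List.all_eq_true, Bool.or_eq_true, List.any_eq_true, List.contains_iff_mem] at h
  rcases h a.val (mem_allCodes.2 a.lt) with ((h1 | h1) | h1) | ⟨l, hl, h1⟩
  · rw [← hmul, ha, hone] at h1
    simp at h1
  · exact Or.inl (Nat.eq_of_beq_eq_true h1)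
  · exact Or.inr (Or.inl (Nat.eq_of_beq_eq_true h1))
  · obtain ⟨i, hi, rfl⟩ := List.mem_iff_getElem.1 hl
    exact Or.inr (Or.inr ⟨i, hi, by rw [List.getD_eq_getElem?_getD, List.getElem?_eq_getElem hi]; exact h1⟩)

end CfsgLib.Spor.HeldFusion
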