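import Cfsg.Agent.Lib.Spor.HeldFusion.Main

/-!
# Held type groups: the pattern with 21 conjugates in each elementary subgroup does not occur

Two subgroups of order 32 of the centraliser, all whose elements have their fixed points on the class of `t`
known up to one unknown number (that of an involution outside the class): the two Burnside congruences say that
this number is odd and even.
-/

set_option autoImplicit false
set_option linter.unusedSectionVars false
set_option linter.style.haveILetI false
set_option maxRecDepth 100000

namespace CfsgLib.Spor.HeldFusion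

open CfsgLib.Spor.HeldRecog Subgroup MulAction

/-- the class of `t` in the centraliser for the pattern 11 -/
def zList11 : List ℕ := zCode :: (class0 ++ class1 ++ class3)

/-- the involutions outside the class -/
def yList11 : List ℕ := class2 ++ class4 ++ class5 ++ class6

/-- the number of conjugates of `t` commuting with an element whose fixed points are local -/
noncomputable def cnt11 (x : ℕ) : ℕ :=
  if mulC x x == 0 then 113 else (zList11.filter fun w => mulC x w == mulC w x).length

/-- the first subgroup of order 32 -/
def sub18 : List ℕ := [0, 16, 32, 48, 64, 80, 96, 112, 128, 144, 160, 176, 192, 208, 224, 240, 9472, 9488, 9504, 9520,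
  9536, 9552, 9568, 9584, 10752, 10768, 10784, 10800, 10816, 10832, 10848, 10864]

/-- the second subgroup of order 32 -/
def sub16 : List ℕ := [0, 1, 8, 9, 54, 55, 62, 63, 64, 65, 72, 73, 118, 119, 126, 127, 19200, 19201, 19208, 19209,
  19254, 19255, 19262, 19263, 19264, 19265, 19272, 19273, 19318, 19319, 19326, 19327]

/-- what is checked for a list of codes -/
noncomputable def okList (L : List ℕ) : Bool :=
  L.all (fun x => decide (x < 21504) && (x == 0 || yList11.contains x || zList11.contains x ||
      (!(mulC x x == 0) && (mulC x x == zCode || mulC (mulC x x) (mulC x x) == zCode)))) &&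
    L.all fun x => L.all fun y => L.contains (mulC x y)

/-- the part of the congruence known locally -/
noncomputable def known11 (L : List ℕ) : ℕ :=
  (((L.filter fun x => !(x == 0)).filter fun x => !yList11.contains x).map cnt11).sum

/-- the number of elements outside the class -/
def unknown11 (L : List ℕ) : ℕ := ((L.filter fun x => !(x == 0)).filter fun x => yList11.contains x).length

theorem sub18_ok : okList sub18 = true ∧ sub18.Nodup ∧ known11 sub18 % 32 = 29 ∧ unknown11 sub18 = 18 := by
  decide +kernel

theorem sub16_ok : okList sub16 = true ∧ sub16.Nodup ∧ known11 sub16 % 32 = 31 ∧ unknown11 sub16 = 16 := by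
  decide +kernel

variable {G : Type*} [Group G] [Finite G] {t : G}

/-- Burnside's congruence for a subgroup with prescribed fixed point numbers -/
theorem card_dvd_sum [Fintype G] (z : G) (E : Subgroup G) [Fintype E] [DecidableEq E] (f : E → ℕ)
    (hf : ∀ x : E, x ≠ 1 → Nat.card {a : G // IsConj z a ∧ Commute (x : G) a} = f x) :
    Nat.card E ∣ nConj z + ∑ x ∈ Finset.univ.erase (1 : E), f x := by
  classical
  let α := {x : G // IsConj z x}
  letI : MulAction E α :=
    { smul := fun e x => ⟨(e : G) * x.1 * (e : G)⁻¹, x.2.trans (isConj_iff.2 ⟨e, rfl⟩)⟩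
      one_smul := fun x => Subtype.ext (by show ((1 : E) : G) * x.1 * ((1 : E) : G)⁻¹ = x.1; simp)
      mul_smul := fun a b x => Subtype.ext (by
        show ((a * b : E) : G) * x.1 * ((a * b : E) : G)⁻¹ = (a : G) * ((b : G) * x.1 * (b : G)⁻¹) * (a : G)⁻¹
        push_cast
        group) }
  haveI : Fintype (orbitRel.Quotient E α) := Fintype.ofFinite _
  have hB := MulAction.sum_card_fixedBy_eq_card_orbits_mul_card_group E α
  have h1 : Fintype.card (fixedBy α (1 : E)) = nConj z := by
    rw [← Nat.card_eq_fintype_card]
    exact Nat.card_congr (Equiv.subtypeUnivEquiv fun x => one_smul E x)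
  have hfix : ∀ x ∈ Finset.univ.erase (1 : E), Fintype.card (fixedBy α x) = f x := by
    intro x hx
    rw [← Nat.card_eq_fintype_card, ← hf x (Finset.ne_of_mem_erase hx)]
    refine (Nat.card_congr (Equiv.subtypeEquivRight fun a => ?_)).trans
      (Nat.card_congr (Equiv.subtypeSubtypeEquivSubtypeInter (IsConj z) fun a => Commute (x : G) a))
    show x • a = a ↔ Commute (x : G) a.1
    exact ⟨fun h => mul_inv_eq_iff_eq_mul.1 (congrArg Subtype.val h), fun h => Subtype.ext (mul_inv_eq_iff_eq_mul.2 h)⟩
  rw [← Finset.add_sum_erase _ _ (Finset.mem_univ (1 : E)), h1, Finset.sum_congr rfl hfix] at hB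
  rw [Nat.card_eq_fintype_card, hB]
  exact dvd_mul_left _ _

theorem sum_split (l : List ℕ) (b : ℕ → Bool) (g : ℕ → ℕ) (F : ℕ) :
    (l.map fun x => if b x then F else g x).sum = (l.filter b).length * F + ((l.filter fun x => !b x).map g).sum := by
  induction l with
  | nil => simp
  | cons a l ih =>
    by_cases h : b a = true
    · simp [h, ih, Nat.succ_mul]
      omega
    · simp only [Bool.not_eq_true] at h
      simp [h, ih]
      omega

variable (e : Cen splitTab ≃* centralizer ({t} : Set G)) (he : ((e ⟨64, by norm_num⟩ : _) : G) = t)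
  (ht : orderOf t = 2)

include he ht in
theorem isConj_iff_zList (h11 : patt e = 11) (x : Cen splitTab) : IsConj t (incl e x) ↔ x.val ∈ zList11 := by
  rw [isConj_iff_pattern e he ht, h11, zList11, List.mem_cons, List.mem_append, List.mem_append]
  constructor
  · rintro (rfl | ⟨c, hc, hb, hx⟩)
    · exact Or.inl (el_val (by norm_num [zCode]))
    · interval_cases c
      · exact Or.inr (Or.inl (Or.inl hx))
      · exact Or.inr (Or.inl (Or.inr hx))
      · simp [Nat.testBit, Nat.shiftRight_eq_div_pow] at hb
      · exact Or.inr (Or.inr hx)
      · simp [Nat.testBit, Nat.shiftRight_eq_div_pow] at hb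
      · simp [Nat.testBit, Nat.shiftRight_eq_div_pow] at hb
      · simp [Nat.testBit, Nat.shiftRight_eq_div_pow] at hb
  · rintro (h | (h | h) | h)
    · exact Or.inl (by rw [← el_of_val x, h])
    · exact Or.inr ⟨0, by norm_num, by decide, h⟩
    · exact Or.inr ⟨1, by norm_num, by decide, h⟩
    · exact Or.inr ⟨3, by norm_num, by decide, h⟩

include he ht in
/-- one congruence -/
theorem congr_list (h11 : patt e = 11) (hG : Nat.card G = 4030387200)
    (htwo : ∀ u v : G, orderOf u = 2 → ¬ IsConj t u → orderOf v = 2 → ¬ IsConj t v → IsConj u v)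
    (y : G) (hy : orderOf y = 2) (hyt : ¬ IsConj t y) (L : List ℕ) (hok : okList L = true) (hnd : L.Nodup)
    (h0 : 0 ∈ L) :
    L.length ∣ 187425 + known11 L + unknown11 L * Nat.card {a : G // IsConj t a ∧ Commute y a} := by
  classical
  haveI := Fintype.ofFinite G
  set F := Nat.card {a : G // IsConj t a ∧ Commute y a} with hF
  simp only [okList, Bool.and_eq_true, List.all_eq_true, decide_eq_true_eq, Bool.or_eq_true, beq_iff_eq,
    List.contains_iff_mem, Bool.not_eq_eq_eq_not, Bool.not_true, beq_eq_false_iff_ne] at hok
  obtain ⟨hel, hcl⟩ := hok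
  let E0 := listSub (fun n => L.contains n) (List.contains_iff_mem.2 h0)
    (fun n hn => (hel n (List.contains_iff_mem.1 hn)).1)
    fun a b ha hb => List.contains_iff_mem.2 (hcl a (List.contains_iff_mem.1 ha) b (List.contains_iff_mem.1 hb))
  have hinj := incl_injective e
  have hmemE : ∀ x : Cen splitTab, x ∈ E0 ↔ x.val ∈ L := fun x => List.contains_iff_mem
  let g : ℕ → ℕ := fun n => if yList11.contains n then F else cnt11 n
  have hcount : ∀ x : Cen splitTab, x ∈ E0 → x ≠ 1 →
      Nat.card {a : G // IsConj t a ∧ Commute (incl e x) a} = g x.val := by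
    intro x hx hx1
    obtain ⟨hlt, hcase⟩ := hel x.val ((hmemE x).1 hx)
    by_cases hyl : x.val ∈ yList11
    · rw [show g x.val = F from if_pos (List.contains_iff_mem.2 hyl)]
      obtain ⟨c, hc, hxc⟩ : ∃ c, (c = 2 ∨ c = 4 ∨ c = 5 ∨ c = 6) ∧ x.val ∈ classL c := by
        simp only [yList11, List.mem_append] at hyl
        rcases hyl with ((h | h) | h) | h
        exacts [⟨2, Or.inl rfl, h⟩, ⟨4, by simp, h⟩, ⟨5, by simp, h⟩, ⟨6, by simp, h⟩]
      have hc7 : c < 7 := by rcases hc with rfl | rfl | rfl | rfl <;> norm_num
      have hnt : ¬ IsConj t (incl e x) := fun h => by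
        rw [← el_of_val x] at h
        have hb := (patt_iff e hc7 hxc).1 h
        rw [h11] at hb
        rcases hc with rfl | rfl | rfl | rfl <;> simp [Nat.testBit, Nat.shiftRight_eq_div_pow] at hb
      have h2 : orderOf (incl e x) = 2 := by
        refine orderOf_eq_prime ?_ fun h => hx1 (hinj (h.trans (map_one _).symm))
        rw [pow_two, ← map_mul, ← el_of_val x, (classL_lt hc7 hxc).2.1, map_one]
      obtain ⟨c', hc'⟩ := isConj_iff.1 (htwo y _ hy hyt h2 hnt)
      rw [hF]
      refine (Nat.card_congr (Equiv.subtypeEquiv (MulAut.conj c').toEquiv fun a => ?_)).symm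
      show _ ↔ IsConj t (c' * a * c'⁻¹) ∧ Commute (incl e x) (c' * a * c'⁻¹)
      have ha : IsConj a (c' * a * c'⁻¹) := isConj_iff.2 ⟨c', rfl⟩
      refine and_congr ⟨fun h => h.trans ha, fun h => h.trans ha.symm⟩ ⟨fun h => ?_, fun h => ?_⟩
      · rw [← hc']
        exact h.map (MulAut.conj c').toMonoidHom
      · rw [← hc'] at h
        have := h.map (MulAut.conj c'⁻¹).toMonoidHom
        simpa [mul_assoc] using this
    · rw [show g x.val = cnt11 x.val from if_neg (fun h => hyl (List.contains_iff_mem.1 h))]
      by_cases hxx : mulC x.val x.val = 0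
      · rw [cnt11, if_pos (beq_iff_eq.2 hxx)]
        have hz : IsConj t (incl e x) := by
          rw [isConj_iff_zList e he ht h11]
          rcases hcase with ((h | h) | h) | h
          · exact absurd (by rw [← el_of_val x, h, el_zero]) hx1
          · exact absurd h hyl
          · exact h
          · exact absurd hxx h.1
        rw [nComm_conj hz, nComm_eq e he ht, h11]
        decide
      · rw [cnt11, if_neg (fun h => hxx (beq_iff_eq.1 h))]
        have hpow : x * x = el zCode ∨ x * x * (x * x) = el zCode := by
          have hor : mulC x.val x.val = zCode ∨ mulC (mulC x.val x.val) (mulC x.val x.val) = zCode := by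
            rcases hcase with ((h | h) | h) | h
            · exact absurd (by rw [← el_of_val x, h, el_zero]) hx1
            · exact absurd h hyl
            · refine absurd ?_ hxx
              have h2 := (isConj_iff_zList e he ht h11 x).2 h
              obtain ⟨c, hc⟩ := isConj_iff.1 h2
              have h3 : x * x = 1 := hinj (by
                rw [map_mul, map_one, ← hc, show c * t * c⁻¹ * (c * t * c⁻¹) = c * (t * t) * c⁻¹ by group,
                  ← pow_two, ← ht, pow_orderOf_eq_one, mul_one, mul_inv_cancel])
              have h4 := congrArg Cen.val h3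
              rwa [split_mul_val, split_one_val] at h4
            · exact h.2
          rcases hor with h | h
          · exact Or.inl (Cen.ext (by rw [split_mul_val, el_val (by norm_num [zCode])]; exact h))
          · exact Or.inr (Cen.ext (by rw [split_mul_val, split_mul_val, el_val (by norm_num [zCode])]; exact h))
        have hlt' : ∀ n ∈ zList11, n < 21504 := by
          intro n hn
          simp only [zList11, List.mem_cons, List.mem_append] at hn
          rcases hn with rfl | (h | h) | h
          · norm_num [zCode]
          exacts [(classL_lt (c := 0) (by norm_num) h).1, (classL_lt (c := 1) (by norm_num) h).1,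
            (classL_lt (c := 3) (by norm_num) h).1]
        set Z := zList11.filter fun w => mulC x.val w == mulC w x.val with hZ
        have hcom : ∀ w : Cen splitTab, Commute x w ↔ mulC x.val w.val = mulC w.val x.val := fun w => by
          constructor
          · intro h
            have h4 := congrArg Cen.val h.eq
            rwa [split_mul_val, split_mul_val] at h4
          · exact fun h => Cen.ext (by rw [split_mul_val, split_mul_val]; exact h)
        let φ : {n : ℕ // n ∈ Z} → {a : G // IsConj t a ∧ Commute (incl e x) a} := fun n =>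
          ⟨incl e (el n.1), (isConj_iff_zList e he ht h11 _).2 (by
              rw [el_val (hlt' _ (List.mem_filter.1 n.2).1)]; exact (List.mem_filter.1 n.2).1),
            ((hcom _).2 (by
              rw [el_val (hlt' _ (List.mem_filter.1 n.2).1)]; exact beq_iff_eq.1 (List.mem_filter.1 n.2).2)).map _⟩
        have hφ : Function.Bijective φ := by
          refine ⟨fun a b h => Subtype.ext (el_inj (hlt' _ (List.mem_filter.1 a.2).1) (hlt' _ (List.mem_filter.1 b.2).1)
            (hinj (congrArg Subtype.val h :))), fun a => ?_⟩
          have hat : Commute a.1 t := by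
            have hza : Commute a.1 (incl e (el zCode)) := by
              rcases hpow with h | h
              · rw [← h, map_mul]
                exact a.2.2.symm.mul_right a.2.2.symm
              · rw [← h, map_mul, map_mul]
                exact (a.2.2.symm.mul_right a.2.2.symm).mul_right (a.2.2.symm.mul_right a.2.2.symm)
            rw [incl_z e he] at hza
            exact hza
          obtain ⟨w, hw⟩ := exists_incl e (mem_centralizer_singleton_iff.2 hat.eq)
          refine ⟨⟨w.val, List.mem_filter.2 ⟨(isConj_iff_zList e he ht h11 w).1 (by rw [hw]; exact a.2.1),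
            beq_iff_eq.2 ((hcom w).1 (hinj (by rw [map_mul, map_mul, hw]; exact a.2.2.eq) : Commute x w))⟩⟩,
            Subtype.ext ((congrArg (incl e) (el_of_val w)).trans hw)⟩
        rw [← Nat.card_congr (Equiv.ofBijective φ hφ), Nat.card_eq_fintype_card]
        refine (Fintype.card_of_subtype Z.toFinset fun w => List.mem_toFinset).trans
          (List.toFinset_card_of_nodup (List.Nodup.filter _ ?_))
        decide +kernel
  -- the subgroup of the group
  set E := E0.map (incl e) with hE
  let pre : E → Cen splitTab := fun a => (Subgroup.mem_map.1 a.2).choose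
  have hpre : ∀ a : E, pre a ∈ E0 ∧ incl e (pre a) = a.1 := fun a => (Subgroup.mem_map.1 a.2).choose_spec
  have hpre1 : ∀ a : E, a ≠ 1 → pre a ≠ 1 := fun a ha h => ha (Subtype.ext (by rw [← (hpre a).2, h, map_one]; rfl))
  haveI : Fintype E := Fintype.ofFinite _
  have hdvd := card_dvd_sum t E (fun a => g (pre a).val) fun a ha => by
    rw [← (hpre a).2]
    exact hcount _ (hpre a).1 (hpre1 a ha)
  have hsum : ∑ a ∈ Finset.univ.erase (1 : E), g (pre a).val = ((L.filter fun x => !(x == 0)).map g).sum := by
    rw [← List.sum_toFinset g (hnd.filter _)]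
    refine Finset.sum_bij (fun a _ => (pre a).val) (fun a ha => ?_) (fun a _ b _ h => ?_) (fun n hn => ?_)
      (fun a _ => rfl)
    · rw [List.mem_toFinset, List.mem_filter]
      refine ⟨(hmemE _).1 (hpre a).1, ?_⟩
      simp only [Bool.not_eq_eq_eq_not, Bool.not_true, beq_eq_false_iff_ne]
      exact fun h => hpre1 a (Finset.ne_of_mem_erase ha) (by rw [← el_of_val (pre a), h, el_zero])
    · exact Subtype.ext (by rw [← (hpre a).2, ← (hpre b).2, Cen.ext h])
    · rw [List.mem_toFinset, List.mem_filter] at hn
      simp only [Bool.not_eq_eq_eq_not, Bool.not_true, beq_eq_false_iff_ne] at hn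
      have hlt := (hel n hn.1).1
      let a : E := ⟨incl e (el n), Subgroup.mem_map_of_mem _ ((hmemE _).2 (by rw [el_val hlt]; exact hn.1))⟩
      refine ⟨a, Finset.mem_erase.2 ⟨fun h => hn.2 ?_, Finset.mem_univ _⟩, ?_⟩
      · have h1 : el n = 1 := hinj ((congrArg Subtype.val h).trans (map_one _).symm)
        rw [← el_val hlt, h1, split_one_val]
      · show (pre a).val = n
        rw [hinj (hpre a).2, el_val hlt]
  have hcard : Nat.card E = L.length := by
    rw [hE, Subgroup.card_map_of_injective hinj,
      card_list_subgroup E0 L hmemE hnd fun n hn => (hel n hn).1]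
  have hn := nConj_mul t
  rw [← Nat.card_congr e.toEquiv, Cen.natCard, hG] at hn
  rw [hcard, hsum, sum_split, show nConj t = 187425 by omega] at hdvd
  rw [known11, unknown11, add_assoc, add_comm ((List.map cnt11 _).sum)]
  exact hdvd

include he ht in
/-- **the pattern 11 does not occur** -/
theorem patt_ne_eleven (hG : Nat.card G = 4030387200)
    (htwo : ∀ u v : G, orderOf u = 2 → ¬ IsConj t u → orderOf v = 2 → ¬ IsConj t v → IsConj u v) :
    patt e ≠ 11 := by
  intro h11
  have hy2 : orderOf (incl e (el ((classL 2).getD 0 0))) = 2 ∧ ¬ IsConj t (incl e (el ((classL 2).getD 0 0))) := by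
    have hm : (classL 2).getD 0 0 ∈ classL 2 := by decide
    refine ⟨orderOf_eq_prime ?_ fun h => ?_, fun h => ?_⟩
    · rw [pow_two, ← map_mul, (classL_lt (by norm_num) hm).2.1, map_one]
    · exact (classL_lt (c := 2) (by norm_num) hm).2.2.1
        (el_inj (classL_lt (c := 2) (by norm_num) hm).1 (by norm_num)
          ((incl_injective e (h.trans (map_one _).symm)).trans el_zero.symm))
    · have hb := (patt_iff e (by norm_num) hm).1 h
      rw [h11] at hb
      simp [Nat.testBit, Nat.shiftRight_eq_div_pow] at hb
  obtain ⟨o1, n1, k1, u1⟩ := sub18_ok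
  obtain ⟨o2, n2, k2, u2⟩ := sub16_ok
  have h1 := congr_list e he ht h11 hG htwo _ hy2.1 hy2.2 sub18 o1 n1 (by decide)
  have h2 := congr_list e he ht h11 hG htwo _ hy2.1 hy2.2 sub16 o2 n2 (by decide)
  rw [u1, show sub18.length = 32 from rfl] at h1
  rw [u2, show sub16.length = 32 from rfl] at h2
  generalize Nat.card {a : G // IsConj t a ∧ Commute (incl e (el ((classL 2).getD 0 0))) a} = F at h1 h2
  omega

include he ht in
/-- **the fusion in a group of Held type**: exactly the pattern 107 -/
theorem patt_eq [IsSimpleGroup G] (hns : ¬ IsMulCommutative G) (hG : Nat.card G = 4030387200)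
    (htwo : ∃ x y : G, orderOf x = 2 ∧ orderOf y = 2 ∧ ¬ IsConj x y ∧
      ∀ z : G, orderOf z = 2 → IsConj z x ∨ IsConj z y) :
    patt e = 107 := by
  refine (patt_cases e he ht hns hG).resolve_left (patt_ne_eleven e he ht hG fun u v hu hnu hv hnv => ?_)
  obtain ⟨x, y, -, -, -, hall⟩ := htwo
  rcases hall u hu with h | h <;> rcases hall v hv with h' | h'
  · exact h.trans h'.symm
  · rcases hall t ht with k | k
    · exact absurd (k.trans h.symm) hnu
    · exact absurd (k.trans h'.symm) hnv
  · rcases hall t ht with k | k
    · exact absurd (k.trans h'.symm) hnv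
    · exact absurd (k.trans h.symm) hnu
  · exact h.trans h'.symm

include he ht in
/-- in a group of Held type both normalisers have order `45 * 3072` -/
theorem card_normalizers (h : patt e = 107) (hG : Nat.card G = 4030387200) :
    Nat.card (normalizer (sideA e : Set G)) = 45 * 3072 ∧ Nat.card (normalizer (sideB e : Set G)) = 45 * 3072 := by
  rw [card_normalizer_sideA e he ht hG, card_normalizer_sideB e he ht hG, h]
  exact ⟨by rw [show (omegaL labA 107).length = 45 by decide +kernel],
    by rw [show (omegaL labB 107).length = 45 by decide +kernel]⟩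

end CfsgLib.Spor.HeldFusion
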